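import Cfsg.Agent.Lib.CharApps.Berger.Berger
import Cfsg.Agent.Lib.CharApps.Inflation
import Cfsg.Agent.Lib.CharApps.Kazarin
import Cfsg.Agent.Lib.Chars.Permutation

/-!
# Real characters of odd degree: basic lemmas
-/

set_option autoImplicit false
set_option linter.unusedSectionVars false
set_option linter.style.haveILetI false

namespace CfsgLib.RealOdd

open Cfsg CfsgLib.CharsMore
open scoped ComplexConjugate

universe u v

variable {G : Type u} [Group G] [Finite G]

/-- Real valued. -/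
def IsR {G : Type u} (χ : G → ℂ) : Prop := ∀ g : G, (χ g).im = 0

/-- Odd degree with `R` in the kernel. -/
def OddIn (R : Subgroup G) (χ : IrrCharacter G) : Prop :=
  Odd (charDegree (χ : G → ℂ)) ∧ ∀ r ∈ R, (χ : G → ℂ) r = (χ : G → ℂ) 1

/-- The number of real characters of odd degree with `R` in the kernel. -/
noncomputable def cnt (R : Subgroup G) : ℕ :=
  Nat.card {χ : IrrCharacter G // OddIn R χ ∧ IsR (χ : G → ℂ)}

/-- All characters of odd degree with `R` in the kernel are real. -/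
def AR (R : Subgroup G) : Prop := ∀ χ : IrrCharacter G, OddIn R χ → IsR (χ : G → ℂ)

/-- Odd degree and lying over `f`. -/
def Over (M : Subgroup G) (f : M → ℂ) (χ : IrrCharacter G) : Prop :=
  Odd (charDegree (χ : G → ℂ)) ∧
    (haveI := Fintype.ofFinite M; classInner (fun m : M => (χ : G → ℂ) m) f) ≠ 0

theorem over_iff (M : Subgroup G) [i : Fintype M] (f : M → ℂ) (χ : IrrCharacter G) :
    Over M f χ ↔ Odd (charDegree (χ : G → ℂ)) ∧ classInner (fun m : M => (χ : G → ℂ) m) f ≠ 0 := by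
  rw [Over, Subsingleton.elim (Fintype.ofFinite M) i]

theorem isR_conj_eq {χ : G → ℂ} : IsR χ ↔ ∀ g, conj (χ g) = χ g :=
  forall_congr' fun _ => Complex.conj_eq_iff_im.symm

theorem OddIn.mono {R R' : Subgroup G} (h : R ≤ R') {χ : IrrCharacter G} (hχ : OddIn R' χ) :
    OddIn R χ :=
  ⟨hχ.1, fun r hr => hχ.2 r (h hr)⟩

/-- The linear character of a homomorphism into the units. -/
def linC {H : Type v} [Group H] (μ : H →* ℂˣ) : H → ℂ := fun h => (μ h : ℂ)

theorem irr_linC {H : Type v} [Group H] (μ : H →* ℂˣ) : IsIrrCharacter H (linC μ) :=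
  Chars.isIrrCharacter_linear μ

theorem linC_one {H : Type v} [Group H] (μ : H →* ℂˣ) : linC μ 1 = 1 := by simp [linC]

theorem linC_injective {H : Type v} [Group H] {μ ν : H →* ℂˣ} (h : linC μ = linC ν) : μ = ν :=
  MonoidHom.ext fun x => Units.ext (congrFun h x)

/-- An irreducible constituent restricts to a nonzero multiple along a homomorphism. -/
theorem inner_ne_zero_of_constituent {Γ : Type u} [Group Γ] [Fintype Γ] {X : Type v} [Group X]
    [Fintype X] {φ ζ : Γ → ℂ} (hφ : IsCharacter Γ φ) (hζ : IsIrrCharacter Γ ζ)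
    (hne : classInner φ ζ ≠ 0) (ι : X →* Γ) {ϕ : X → ℂ} (hϕ : IsCharacter X ϕ)
    (h : classInner (fun x => ζ (ι x)) ϕ ≠ 0) : classInner (fun x => φ (ι x)) ϕ ≠ 0 := fun h0 =>
  h (Berger.inner_mono hφ hζ hne ι hϕ h0)

/-- The trivial character as constituent puts a normal subgroup into the kernel. -/
theorem kernel_of_inner {R : Subgroup G} [R.Normal] [Fintype R] (χ : IrrCharacter G)
    (h : classInner (fun r : R => (χ : G → ℂ) r) (fun _ => 1) ≠ 0) :
    ∀ r ∈ R, (χ : G → ℂ) r = (χ : G → ℂ) 1 := by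
  haveI := Fintype.ofFinite G
  intro r hr
  have key := restrict_eq_mul_of_invariant R χ.2 Chars.isIrrCharacter_one (fun _ _ => rfl) h
  have h1 := key ⟨r, hr⟩
  have h2 := key 1
  rw [OneMemClass.coe_one] at h2
  rw [h2]; exact h1

/-- Odd degree over a `2`-quotient of an abelian section forces linearity. -/
theorem linear_of_odd {H : Type v} [Group H] [Finite H] {R M : Subgroup H} [M.Normal] [R.Normal]
    (hRM : R ≤ M) (hab : ∀ x ∈ M, ∀ y ∈ M, x * y * x⁻¹ * y⁻¹ ∈ R) {k : ℕ} (hk : M.index = 2 ^ k)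
    (ζ : IrrCharacter H) (hζ : OddIn R ζ) : ∃ μ : H →* ℂˣ, (ζ : H → ℂ) = linC μ := by
  classical
  haveI := Fintype.ofFinite H
  haveI := Fintype.ofFinite M
  haveI := Fintype.ofFinite R
  obtain ⟨θ, hθ⟩ := Chars.exists_constituent
    (Chars.isCharacter_restrict M (Chars.isCharacter_of_irr ζ.2))
    (fun e => Chars.irr_degree_ne_zero ζ.2 (by simpa using congrFun e 1))
  obtain ⟨f, hf⟩ := Berger.mult_of_homog (φ := fun m : M => (ζ : H → ℂ) m)
    (Chars.isCharacter_restrict M (Chars.isCharacter_of_irr ζ.2)) θ.2 hθ (R.subgroupOf M).subtype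
    (ϕ := fun _ => 1) Chars.isIrrCharacter_one (c := (ζ : H → ℂ) 1)
    (fun x => by rw [mul_one]; exact hζ.2 _ x.2)
  have hker : R.subgroupOf M ≤ CharApps.charKer θ := fun x hx => by
    rw [CharApps.mem_charKer]
    have h1 := hf ⟨x, hx⟩
    have h2 := hf 1
    rw [map_one] at h2
    rw [h2]; exact h1
  haveI : Fintype (R.subgroupOf M) := Fintype.ofFinite _
  haveI := Chars.irrFintype M
  have hθ1 : (θ : M → ℂ) 1 = 1 :=
    quotIrr_linear (R.subgroupOf M) (fun x y => hab x x.2 y y.2) ((mem_quotIrr _).2 hker)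
  obtain ⟨d, -, hd, hdk⟩ := degree_quotient M ζ.2 θ.2 hθ
  rw [hθ1, mul_one, CharApps.deg_eq, Nat.cast_inj] at hd
  subst hd
  rw [hk] at hdk
  have h1 : (ζ : H → ℂ) 1 = 1 := by
    obtain ⟨i, -, hi⟩ := (Nat.dvd_prime_pow Nat.prime_two).1 hdk
    rw [CharApps.deg_eq, hi]
    rcases i with _ | i
    · simp
    · exact absurd hζ.1 (by rw [hi, Nat.not_odd_iff_even]; exact ⟨2 ^ i, by ring⟩)
  exact Chars.exists_hom_of_degree_one (Chars.isCharacter_of_irr ζ.2) h1

/-- A linear constituent on a `2`-extension of an abelian section, real if the character is. -/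
theorem exists_linear_on {R M H : Subgroup G} [R.Normal] [M.Normal] (hRM : R ≤ M)
    (hab : ∀ x ∈ M, ∀ y ∈ M, x * y * x⁻¹ * y⁻¹ ∈ R) (hMH : M ≤ H) {k : ℕ}
    (hk : M.relIndex H = 2 ^ k) [Fintype H] {χ : IrrCharacter G} (hχ : OddIn R χ) :
    ∃ μ : H →* ℂˣ, (∀ h : H, (h : G) ∈ R → μ h = 1) ∧
      classInner (fun h : H => (χ : G → ℂ) h) (linC μ) ≠ 0 ∧
      (IsR (χ : G → ℂ) → ∀ h, μ h ^ 2 = 1) := by
  classical
  haveI := Fintype.ofFinite G
  haveI := Fintype.ofFinite R
  haveI := Chars.irrFintype H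
  have hres := Chars.isCharacter_restrict H (Chars.isCharacter_of_irr χ.2)
  let w : IrrCharacter H → ℕ := fun ζ =>
    multNat (fun h : H => (χ : G → ℂ) h) ζ * charDegree (ζ : H → ℂ)
  have hsum : charDegree (χ : G → ℂ) = ∑ ζ, w ζ := by
    have h1 := congrFun (char_eq_sum_multNat hres) 1
    simp only [Finset.sum_apply, Pi.smul_apply, smul_eq_mul, OneMemClass.coe_one,
      CharApps.deg_eq] at h1
    exact_mod_cast h1
  have hlin : ∀ ζ : IrrCharacter H, Odd (w ζ) → ∃ μ : H →* ℂˣ, (ζ : H → ℂ) = linC μ ∧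
      (∀ h : H, (h : G) ∈ R → μ h = 1) ∧ classInner (fun h : H => (χ : G → ℂ) h) (linC μ) ≠ 0 := by
    intro ζ hw
    have hmo := (Nat.odd_mul.1 hw)
    have hne : classInner (fun h : H => (χ : G → ℂ) h) ζ ≠ 0 := by
      rw [inner_eq_multNat hres (Chars.isCharacter_of_irr ζ.2), Nat.cast_ne_zero]
      exact fun h0 => by simp [h0] at hmo
    haveI : Fintype (R.subgroupOf H) := Fintype.ofFinite _
    obtain ⟨f, hf⟩ := Berger.mult_of_homog hres ζ.2 hne (R.subgroupOf H).subtype
      (ϕ := fun _ => 1) Chars.isIrrCharacter_one (c := (χ : G → ℂ) 1)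
      (fun x => by rw [mul_one]; exact hχ.2 _ x.2)
    have hker : ∀ x ∈ R.subgroupOf H, (ζ : H → ℂ) x = (ζ : H → ℂ) 1 := fun x hx => by
      have h1 := hf ⟨x, hx⟩
      have h2 := hf 1
      rw [map_one] at h2
      rw [h2]; exact h1
    haveI : (M.subgroupOf H).Normal := inferInstance
    obtain ⟨μ, hμ⟩ := linear_of_odd (R := R.subgroupOf H) (M := M.subgroupOf H)
      (fun x hx => hRM hx) (fun x hx y hy => hab _ hx _ hy) (k := k) hk ζ ⟨hmo.2, hker⟩
    refine ⟨μ, hμ, fun h hh => ?_, hμ ▸ hne⟩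
    have := hker h hh
    rw [hμ, linC_one] at this
    exact Units.ext this
  by_cases hreal : IsR (χ : G → ℂ)
  · obtain ⟨ζ, hζw, hζc⟩ : ∃ ζ, Odd (w ζ) ∧ Chars.conjIrr ζ = ζ := by
      by_contra hno
      push Not at hno
      have hwc : ∀ ζ, w (Chars.conjIrr ζ) = w ζ := by
        intro ζ
        have hc : classInner (fun h : H => (χ : G → ℂ) h) (Chars.conjIrr ζ) =
            conj (classInner (fun h : H => (χ : G → ℂ) h) ζ) := by
          rw [Chars.inner_def, Chars.inner_def, map_mul, map_inv₀, map_natCast, map_sum]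
          refine congrArg _ (Finset.sum_congr rfl fun h _ => ?_)
          rw [map_mul, isR_conj_eq.1 hreal]
          rfl
        simp only [w]
        congr 1
        rw [multNat, multNat, hc, Complex.conj_re]
      have hz : ((∑ ζ, w ζ : ℕ) : ZMod 2) = 0 := by
        rw [Nat.cast_sum]
        refine Finset.sum_involution (fun ζ _ => Chars.conjIrr ζ) (fun ζ _ => ?_) (fun ζ _ h => ?_)
          (fun _ _ => Finset.mem_univ _) (fun ζ _ => Chars.conjIrr_conjIrr ζ)
        · rw [hwc, CharTwo.add_self_eq_zero]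
        · exact hno ζ ((ZMod.natCast_ne_zero_iff_odd).1 h)
      rw [← hsum, ZMod.natCast_eq_zero_iff_even] at hz
      exact Nat.not_odd_iff_even.2 hz hχ.1
    obtain ⟨μ, hμ, hR, hne⟩ := hlin ζ hζw
    refine ⟨μ, hR, hne, fun _ h => Units.ext ?_⟩
    have h1 := congrFun (congrArg Subtype.val hζc) h
    change conj ((ζ : H → ℂ) h) = (ζ : H → ℂ) h at h1
    rw [hμ] at h1
    have h2 : (μ h : ℂ) * conj (μ h : ℂ) = 1 := by
      have hu := Chars.irr_inv ζ h
      rw [hμ] at hu
      show (μ h : ℂ) * conj (linC μ h) = 1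
      rw [← hu]
      simp [linC]
    rw [Units.val_pow_eq_pow_val, Units.val_one, sq]
    change conj (μ h : ℂ) = (μ h : ℂ) at h1
    rwa [h1] at h2
  · obtain ⟨ζ, hζw⟩ : ∃ ζ, Odd (w ζ) := by
      by_contra hno
      push Not at hno
      refine Nat.not_odd_iff_even.2 ?_ hχ.1
      rw [hsum]
      exact Finset.even_sum _ fun ζ _ => Nat.not_odd_iff_even.1 (hno ζ)
    obtain ⟨μ, hμ, hR, hne⟩ := hlin ζ hζw
    exact ⟨μ, hR, hne, fun h => absurd h hreal⟩

/-- An induced linear character of odd index has a constituent of odd degree. -/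
theorem exists_odd_over (H : Subgroup G) [Fintype H] (hodd : Odd H.index) (μ : H →* ℂˣ) :
    ∃ χ : IrrCharacter G, Odd (charDegree (χ : G → ℂ)) ∧
      classInner (fun h : H => (χ : G → ℂ) h) (linC μ) ≠ 0 := by
  classical
  haveI := Fintype.ofFinite G
  haveI := Chars.irrFintype G
  have hμc := Chars.isCharacter_of_irr (irr_linC μ)
  have hc := Chars.isCharacter_indFun H hμc
  by_contra hno
  push Not at hno
  refine Nat.not_odd_iff_even.2 ?_ hodd
  have h1 := congrFun (char_eq_sum_multNat hc) 1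
  simp only [Finset.sum_apply, Pi.smul_apply, smul_eq_mul, Chars.indFun_one_apply, linC_one,
    mul_one, CharApps.deg_eq] at h1
  have h2 : H.index = ∑ χ : IrrCharacter G,
      multNat (indFun H (linC μ)) χ * charDegree (χ : G → ℂ) := by exact_mod_cast h1
  rw [h2]
  refine Finset.even_sum _ fun χ _ => ?_
  by_cases hd : Odd (charDegree (χ : G → ℂ))
  · have h0 : classInner (indFun H (linC μ)) χ = 0 := by
      rw [Chars.inner_indFun H _ (Chars.isClassFunction_irr χ), ← Chars.inner_conj, hno χ hd,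
        map_zero]
    rw [multNat, h0]
    simp
  · exact (Nat.not_odd_iff_even.1 hd).mul_left _

/-- Extending a homomorphism across a normal subgroup on whose intersection it is trivial. -/
theorem ext_hom {A : Type*} [CommGroup A] {H K L : Subgroup G} [K.Normal] (_hKH : K ≤ H)
    (hLH : L ≤ H) (hgen : ∀ h ∈ H, ∃ k ∈ K, ∃ l ∈ L, k * l = h) (μ : L →* A)
    (hμ : ∀ l : L, (l : G) ∈ K → μ l = 1) :
    ∃ ν : H →* A, (∀ l : L, ν ⟨l, hLH l.2⟩ = μ l) ∧ ∀ h : H, (h : G) ∈ K → ν h = 1 := by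
  let q : H →* H ⧸ K.subgroupOf H := QuotientGroup.mk' _
  let f : L →* H ⧸ K.subgroupOf H := q.comp (Subgroup.inclusion hLH)
  have hf : Function.Surjective f := fun x => by
    obtain ⟨h, rfl⟩ := QuotientGroup.mk'_surjective (K.subgroupOf H) x
    obtain ⟨k, hk, l, hl, e⟩ := hgen h h.2
    refine ⟨⟨l, hl⟩, (QuotientGroup.mk'_eq_mk' (K.subgroupOf H)).2
      ⟨(⟨l, hLH hl⟩ : H)⁻¹ * h, ?_, mul_inv_cancel_left _ _⟩⟩
    rw [Subgroup.mem_subgroupOf]
    show l⁻¹ * (h : G) ∈ K
    rw [← e, ← mul_assoc]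
    simpa using (inferInstance : K.Normal).conj_mem k hk l⁻¹
  have hk : f.ker ≤ μ.ker := fun l hl => by
    rw [MonoidHom.mem_ker] at hl ⊢
    exact hμ l ((QuotientGroup.eq_one_iff (N := K.subgroupOf H) _).1 hl)
  refine ⟨(f.liftOfSurjective hf ⟨μ, hk⟩).comp q, fun l => ?_, fun h hh => ?_⟩
  · exact f.liftOfRightInverse_comp_apply _ (Function.rightInverse_surjInv hf) ⟨μ, hk⟩ l
  · rw [MonoidHom.comp_apply, show q h = 1 from (QuotientGroup.eq_one_iff _).2 hh, map_one]

/-- An invariance propagates to a join. -/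
theorem invariant_of_sup {M P : Subgroup G} [hM : M.Normal] {A : Type*} [CommGroup A] (l : M →* A)
    (hP : ∀ g ∈ P, ∀ m : M, l (conjBy M g m) = l m) :
    ∀ g ∈ M ⊔ P, ∀ m : M, l (conjBy M g m) = l m := by
  intro g hg m
  rw [← SetLike.mem_coe, Subgroup.normal_mul M P] at hg
  obtain ⟨x, hx, y, hy, rfl⟩ := hg
  rw [show conjBy M (x * y) m = ⟨x, hx⟩ * conjBy M y m * (⟨x, hx⟩ : M)⁻¹ from
    Subtype.ext (by simp [conjBy, mul_assoc]), map_mul, map_mul, map_inv,
    mul_comm (l ⟨x, hx⟩), mul_inv_cancel_right, hP y hy]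

section Congr

variable {A : Type u} [Group A] [Finite A] {B : Type v} [Group B] [Finite B] (e : A ≃* B)

/-- Transport of irreducible characters. -/
noncomputable def irrEquiv : IrrCharacter B ≃ IrrCharacter A where
  toFun χ := ⟨fun a => (χ : B → ℂ) (e a),
    Chars.isIrrCharacter_comp e.toMonoidHom e.surjective χ.2⟩
  invFun χ := ⟨fun b => (χ : A → ℂ) (e.symm b),
    Chars.isIrrCharacter_comp e.symm.toMonoidHom e.symm.surjective χ.2⟩
  left_inv χ := Subtype.ext (funext fun b => by simp)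
  right_inv χ := Subtype.ext (funext fun a => by simp)

theorem irrEquiv_apply (χ : IrrCharacter B) (a : A) :
    (irrEquiv e χ : A → ℂ) a = (χ : B → ℂ) (e a) := rfl

theorem isR_irrEquiv (χ : IrrCharacter B) :
    IsR (irrEquiv e χ : A → ℂ) ↔ IsR (χ : B → ℂ) :=
  ⟨fun h b => by simpa [irrEquiv_apply] using h (e.symm b), fun h a => h (e a)⟩

theorem charDegree_irrEquiv (χ : IrrCharacter B) :
    charDegree (irrEquiv e χ : A → ℂ) = charDegree (χ : B → ℂ) := by
  simp [charDegree, irrEquiv_apply]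

theorem oddIn_irrEquiv (R : Subgroup A) (R' : Subgroup B) (h : ∀ a, a ∈ R ↔ e a ∈ R')
    (χ : IrrCharacter B) : OddIn R (irrEquiv e χ) ↔ OddIn R' χ := by
  simp only [OddIn, charDegree_irrEquiv, irrEquiv_apply, map_one]
  exact and_congr_right fun _ => ⟨fun h' b hb => by
    simpa using h' (e.symm b) ((h _).2 (by simpa using hb)), fun h' a ha => h' _ ((h a).1 ha)⟩

theorem cnt_congr (R : Subgroup A) (R' : Subgroup B) (h : ∀ a, a ∈ R ↔ e a ∈ R') :
    cnt R' = cnt R :=
  Nat.card_congr ((irrEquiv e).subtypeEquiv fun χ =>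
    (and_congr (oddIn_irrEquiv e R R' h χ) (isR_irrEquiv e χ)).symm)

theorem ar_congr (R : Subgroup A) (R' : Subgroup B) (h : ∀ a, a ∈ R ↔ e a ∈ R') :
    AR R' ↔ AR R := by
  refine (Equiv.forall_congr (irrEquiv e) fun {χ} => ?_)
  rw [oddIn_irrEquiv e R R' h χ, isR_irrEquiv e χ]

theorem over_irrEquiv (M : Subgroup A) (M' : Subgroup B) (h : ∀ a, a ∈ M ↔ e a ∈ M')
    (f : M → ℂ) (f' : M' → ℂ) (hf : ∀ m : M, f' ⟨e m, (h m).1 m.2⟩ = f m) (χ : IrrCharacter B) :
    Over M f (irrEquiv e χ) ↔ Over M' f' χ := by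
  haveI := Fintype.ofFinite M
  haveI := Fintype.ofFinite M'
  rw [over_iff, over_iff, charDegree_irrEquiv]
  let eM : M ≃* M' :=
    { toFun := fun m => ⟨e m, (h m).1 m.2⟩
      invFun := fun m => ⟨e.symm m, (h _).2 (by simp)⟩
      left_inv := fun m => Subtype.ext (by simp)
      right_inv := fun m => Subtype.ext (by simp)
      map_mul' := fun a b => Subtype.ext (by simp) }
  rw [← inner_comp_equiv eM (fun m : M' => (χ : B → ℂ) m) f',
    show (fun x => f' (eM x)) = f from funext hf]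
  rfl

end Congr

end CfsgLib.RealOdd
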