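import Cfsg.Agent.Lib.CharApps.RealOdd.TwoStep

/-!
# Labels on a two-section and their stabilisers
-/

set_option autoImplicit false
set_option linter.unusedSectionVars false
set_option linter.style.haveILetI false

namespace CfsgLib.RealOdd

open Cfsg CfsgLib.CharsMore
open scoped ComplexConjugate

universe u v

/-- Counting through classes of labels. -/
theorem card_eq_sum {X : Type u} {Λ : Type v} [Finite X] [Finite Λ] (r : Setoid Λ)
    [Fintype (Quotient r)] (Ov : X → Λ → Prop) (hex : ∀ x, ∃ a, Ov x a)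
    (hiff : ∀ x a, Ov x a → ∀ b, Ov x b ↔ r a b) :
    Nat.card X = ∑ q : Quotient r, Nat.card {x : X // Ov x q.out} := by
  rw [← Nat.card_sigma]
  refine (Nat.card_congr (Equiv.ofBijective (fun s : Σ q : Quotient r, {x : X // Ov x q.out} =>
    s.2.1) ⟨?_, ?_⟩)).symm
  · rintro ⟨q, x, hx⟩ ⟨q', x', hx'⟩ (rfl : x = x')
    have h1 := (hiff x _ hx _).1 hx'
    have : q = q' := by rw [← Quotient.out_eq q, ← Quotient.out_eq q']; exact Quotient.sound h1
    subst this
    rfl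
  · intro x
    obtain ⟨a, ha⟩ := hex x
    exact ⟨⟨⟦a⟧, x, (hiff x a ha _).2 (r.symm (Quotient.mk_out a))⟩, rfl⟩

variable {G : Type u} [Group G] [Finite G]

/-- `M` is generated by `R` and the part of `M` in the Sylow subgroup. -/
theorem mem_sup_inter {R M : Subgroup G} [R.Normal] [M.Normal] (hs : Sec R M 2) (P : Sylow 2 G) :
    ∀ m ∈ M, ∃ r ∈ R, ∃ x ∈ M ⊓ (P : Subgroup G), r * x = m := by
  have hle : R ⊔ (M ⊓ (P : Subgroup G)) ≤ M := sup_le hs.le inf_le_left
  have h2 : IsPGroup 2 (M ⧸ R.subgroupOf M) := fun x => by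
    obtain ⟨m, rfl⟩ := QuotientGroup.mk_surjective x
    exact ⟨1, by rw [pow_one, ← QuotientGroup.mk_pow, QuotientGroup.eq_one_iff]; exact hs.exp _ m.2⟩
  obtain ⟨k, hk⟩ := h2.exists_card_eq
  rw [← Subgroup.index_eq_card] at hk
  have hd1 : (R ⊔ (M ⊓ (P : Subgroup G))).relIndex M ∣ 2 ^ k :=
    hk ▸ Subgroup.relIndex_dvd_of_le_left M le_sup_left
  have hd2 : (R ⊔ (M ⊓ (P : Subgroup G))).relIndex M ∣ (P : Subgroup G).index := by
    refine (Subgroup.relIndex_dvd_of_le_left M le_sup_right).trans ?_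
    rw [inf_comm, Subgroup.inf_relIndex_right]
    exact CharApps.Kazarin.relIndex_dvd_index _ M
  have h1 : (R ⊔ (M ⊓ (P : Subgroup G))).relIndex M = 1 := by
    refine Nat.eq_one_of_dvd_coprimes ?_ hd1 hd2
    exact ((Nat.coprime_two_left).2 (odd_index_of_ge P le_rfl)).pow_left k
  intro m hm
  have hm' : m ∈ ((R ⊔ (M ⊓ (P : Subgroup G)) : Subgroup G) : Set G) :=
    Subgroup.relIndex_eq_one.1 h1 hm
  rwa [Subgroup.normal_mul R] at hm'

/-- Sign homomorphisms agreeing on the trace in a subgroup containing the Sylow subgroup agree. -/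
theorem hom_ext_inter {R M : Subgroup G} [R.Normal] [M.Normal] (hs : Sec R M 2) (P : Sylow 2 G)
    {A : Type*} [CommGroup A] {l l' : M →* A} (hl : ∀ m : M, (m : G) ∈ R → l m = 1)
    (hl' : ∀ m : M, (m : G) ∈ R → l' m = 1)
    (h : ∀ m : M, (m : G) ∈ (P : Subgroup G) → l m = l' m) : l = l' := by
  refine MonoidHom.ext fun m => ?_
  obtain ⟨r, hr, x, hx, e⟩ := mem_sup_inter hs P m m.2
  rw [show m = (⟨r, hs.le hr⟩ : M) * ⟨x, hx.1⟩ from Subtype.ext e.symm, map_mul, map_mul,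
    hl _ hr, hl' _ hr, h _ hx.2]

/-- Statements compared between a group and its Sylow normaliser. -/
def Main (R : Subgroup G) (P : Sylow 2 G) : Prop :=
  cnt R = cnt (R.subgroupOf (Subgroup.normalizer ((P : Subgroup G) : Set G))) ∧
    (AR R ↔ AR (R.subgroupOf (Subgroup.normalizer ((P : Subgroup G) : Set G))))

/-- The label restricted to a subgroup. -/
def resLabel {M : Subgroup G} (l : M →* ℤˣ) (N : Subgroup G) : M.subgroupOf N →* ℤˣ :=
  l.comp { toFun := fun x => ⟨((x : N) : G), x.2⟩, map_one' := rfl, map_mul' := fun _ _ => rfl }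

/-- The comparison for an invariant label. -/
theorem link {R M : Subgroup G} [R.Normal] [M.Normal] (hs : Sec R M 2) (P : Sylow 2 G)
    (l : M →* ℤˣ) (hlR : ∀ m : M, (m : G) ∈ R → l m = 1) (hinv : ∀ g m, l (conjBy M g m) = l m)
    (ih : Main M P) :
    let N := Subgroup.normalizer ((P : Subgroup G) : Set G)
    Nat.card {χ : IrrCharacter G // Over M (lam l) χ ∧ IsR (χ : G → ℂ)} =
      Nat.card {ψ : IrrCharacter N // Over (M.subgroupOf N) (lam (resLabel l N)) ψ ∧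
        IsR (ψ : N → ℂ)} ∧
    ((∀ χ : IrrCharacter G, Over M (lam l) χ → IsR (χ : G → ℂ)) ↔
      ∀ ψ : IrrCharacter N, Over (M.subgroupOf N) (lam (resLabel l N)) ψ → IsR (ψ : N → ℂ)) := by
  classical
  intro N
  have hPN : (P : Subgroup G) ≤ N := Subgroup.le_normalizer
  set PN : Sylow 2 N := P.subtype hPN with hPNdef
  have hPNmem : ∀ x : N, x ∈ (PN : Subgroup N) ↔ (x : G) ∈ (P : Subgroup G) := fun x => by
    rw [hPNdef, Sylow.coe_subtype, Subgroup.mem_subgroupOf]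
  have hsN := hs.restrict N
  set l' := resLabel l N with hl'
  have hlR' : ∀ m : M.subgroupOf N, ((m : N) : G) ∈ R → l' m = 1 := fun m hm => hlR _ hm
  have hinv' : ∀ g m, l' (conjBy (M.subgroupOf N) g m) = l' m := fun g m =>
    hinv (g : G) ⟨((m : N) : G), m.2⟩
  obtain ⟨t1, t0, tA⟩ := twist hs P l hlR hinv
  obtain ⟨s1, s0, sA⟩ := twist hsN PN l' hlR' hinv'
  set H := M ⊔ (P : Subgroup G) with hH
  set H' : Subgroup N := M.subgroupOf N ⊔ (PN : Subgroup N) with hH'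
  have hHH' : ∀ x : N, x ∈ H' → (x : G) ∈ H := fun x hx =>
    (sup_le (fun y hy => (le_sup_left : M ≤ H) hy)
      (fun y hy => (le_sup_right : (P : Subgroup G) ≤ H) ((hPNmem y).1 hy)) :
      H' ≤ H.subgroupOf N) hx
  -- extensions travel from the normaliser to H
  have hup : ∀ {A : Type} [CommGroup A] (c : ℤˣ →* A) (μ' : H' →* A),
      (∀ m : M.subgroupOf N, μ' ⟨m, le_sup_left (a := M.subgroupOf N) m.2⟩ = c (l' m)) →
        ∃ μ : H →* A, ∀ m : M, μ ⟨m, le_sup_left (a := M) m.2⟩ = c (l m) := by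
    intro A _ c μ' hμ'
    set L := H'.map N.subtype with hL
    have hLH : L ≤ H := by rintro _ ⟨x, hx, rfl⟩; exact hHH' x hx
    let μL : L →* A := μ'.comp (Subgroup.equivMapOfInjective H' N.subtype N.subtype_injective).symm.toMonoidHom
    have hμL : ∀ (x : H'), μL ⟨((x : N) : G), ⟨x, x.2, rfl⟩⟩ = μ' x := fun x =>
      congrArg μ' ((Subgroup.equivMapOfInjective H' N.subtype N.subtype_injective).symm_apply_apply x)
    obtain ⟨μ, hμ, hμR⟩ := ext_hom (H := H) (K := R) (L := L) (hs.le.trans le_sup_left) hLH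
      (fun h hh => by
        rw [← SetLike.mem_coe, Subgroup.normal_mul M] at hh
        obtain ⟨m, hm, y, hy, rfl⟩ := hh
        obtain ⟨r, hr, x, hx, rfl⟩ := mem_sup_inter hs P m hm
        refine ⟨r, hr, x * y, L.mul_mem ⟨⟨x, hPN hx.2⟩, (le_sup_left : M.subgroupOf N ≤ H') hx.1, rfl⟩
          ⟨⟨y, hPN hy⟩, (le_sup_right : (PN : Subgroup N) ≤ H') ((hPNmem _).2 hy), rfl⟩, ?_⟩
        exact (mul_assoc _ _ _).symm)
      μL fun x hxR => by
        obtain ⟨_, y, hy, rfl⟩ := x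
        have hyR : (y : G) ∈ R := hxR
        have h1 : μL ⟨(y : G), ⟨y, hy, rfl⟩⟩ = μ' ⟨y, hy⟩ := hμL ⟨y, hy⟩
        refine h1.trans ?_
        refine (hμ' ⟨y, hs.le hyR⟩).trans ?_
        rw [hlR' _ hyR, map_one]
    refine ⟨μ, fun m => ?_⟩
    have e : μ.comp (Subgroup.inclusion (le_sup_left : M ≤ H)) = c.comp l := by
      refine hom_ext_inter hs P (fun m hm => hμR _ hm)
        (fun m hm => by rw [MonoidHom.comp_apply, hlR m hm, map_one]) fun m hm => ?_
      let xN : N := ⟨m, hPN hm⟩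
      have hxH : xN ∈ H' := (le_sup_left : M.subgroupOf N ≤ H') m.2
      refine ((hμ ⟨m, ⟨xN, hxH, rfl⟩⟩).trans (hμL ⟨xN, hxH⟩)).trans ?_
      exact hμ' ⟨xN, m.2⟩
    exact DFunLike.congr_fun e m
  have hsign : HasSign M l ↔ HasSign (M.subgroupOf N) l' := by
    refine ⟨fun ⟨δ, hδ⟩ => ⟨δ.comp N.subtype, fun m => hδ ⟨_, m.2⟩⟩, fun ⟨δ', hδ'⟩ => ?_⟩
    obtain ⟨ν, hν⟩ := hup (MonoidHom.id ℤˣ) (δ'.comp H'.subtype) fun m => hδ' m
    exact transfer_ext le_sup_left (odd_index_of_ge P le_sup_right) ν l hν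
      (fun m => Int.units_sq _) hinv
  have hlin : HasLin M P l ↔ HasLin (M.subgroupOf N) PN l' := by
    refine ⟨fun ⟨μ, hμ⟩ => ⟨μ.comp
      { toFun := fun x => ⟨((x : N) : G), hHH' _ x.2⟩, map_one' := rfl, map_mul' := fun _ _ => rfl },
      fun m => hμ ⟨_, m.2⟩⟩, fun ⟨μ', hμ'⟩ => hup cC μ' hμ'⟩
  refine ⟨?_, ?_⟩
  · by_cases hδ : HasSign M l
    · rw [t1 hδ, s1 (hsign.1 hδ), ih.1]
    · rw [t0 hδ, s0 (fun h => hδ (hsign.2 h))]
  · rw [tA, sA, hlin, hsign, ih.2]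

end CfsgLib.RealOdd
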