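import Cfsg.Agent.Lib.CharApps.RealOdd.Labels
import Cfsg.Agent.Lib.PGroups.Basic
import Cfsg.Agent.Lib.CharsMore.FullyRamified

/-!
# Real characters of odd degree of solvable groups and the Sylow two-normaliser
-/

set_option autoImplicit false
set_option linter.unusedSectionVars false
set_option linter.style.haveILetI false

namespace CfsgLib.RealOdd

open Cfsg CfsgLib.CharsMore
open scoped ComplexConjugate

universe u

variable {G : Type u} [Group G] [Finite G]

/-- Every character of odd degree lies over some invariant sign label. -/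
theorem exists_label {R M : Subgroup G} [R.Normal] [M.Normal] (hs : Sec R M 2) (P : Sylow 2 G)
    {χ : IrrCharacter G} (hχ : OddIn R χ) :
    ∃ l : M →* ℤˣ, (∀ m : M, (m : G) ∈ R → l m = 1) ∧
      (∀ g ∈ (P : Subgroup G), ∀ m, l (conjBy M g m) = l m) ∧ Over M (lam l) χ := by
  classical
  haveI := Fintype.ofFinite G
  haveI := Fintype.ofFinite M
  set H := M ⊔ (P : Subgroup G) with hH
  haveI := Fintype.ofFinite H
  obtain ⟨k, hk⟩ := exists_relIndex_two_pow P M
  obtain ⟨μ, hμR, hne, -⟩ := exists_linear_on hs.le hs.ab le_sup_left hk hχ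
  set ν : M →* ℂˣ := μ.comp (Subgroup.inclusion (le_sup_left : M ≤ H)) with hν
  obtain ⟨l, hl⟩ := exists_sign ν fun m => by
    rw [← map_pow]; exact hμR _ (hs.exp _ m.2)
  refine ⟨l, fun m hm => cC_injective ?_, fun g hg m => cC_injective ?_, ?_⟩
  · rw [hl, map_one]; exact hμR _ hm
  · rw [hl, hl]
    let gH : H := ⟨g, (le_sup_right : (P : Subgroup G) ≤ H) hg⟩
    show μ (Subgroup.inclusion (le_sup_left : M ≤ H) (conjBy M g m)) = μ _
    rw [show Subgroup.inclusion (le_sup_left : M ≤ H) (conjBy M g m) =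
      gH * Subgroup.inclusion (le_sup_left : M ≤ H) m * gH⁻¹ from Subtype.ext rfl, map_mul, map_mul,
      map_inv, mul_comm (μ gH), mul_inv_cancel_right]
  · rw [over_iff]
    refine ⟨hχ.1, ?_⟩
    refine inner_ne_zero_of_constituent (Chars.isCharacter_restrict H (Chars.isCharacter_of_irr χ.2))
      (irr_linC μ) hne (Subgroup.inclusion (le_sup_left : M ≤ H))
      (Chars.isCharacter_of_irr (irr_lam l)) ?_
    rw [show (fun x : M => linC μ (Subgroup.inclusion (le_sup_left : M ≤ H) x)) = lam l from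
      funext fun x => (congrArg Units.val (hl x)).symm,
      (Chars.isIrrCharacter_iff_inner_self.1 (irr_lam l)).2]
    exact one_ne_zero

/-- Labels below one character are conjugate. -/
theorem label_conj {M : Subgroup G} [M.Normal] {χ : IrrCharacter G} {a b : M →* ℤˣ}
    (ha : Over M (lam a) χ) (hb : Over M (lam b) χ) :
    ∃ g : G, ∀ m, b m = a (conjBy M g m) := by
  haveI := Fintype.ofFinite G
  haveI := Fintype.ofFinite M
  obtain ⟨g, hg⟩ := restrict_constituents_conj M χ.2 (irr_lam a) (irr_lam b)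
    ((over_iff M _ χ).1 ha).2 ((over_iff M _ χ).1 hb).2
  refine ⟨g, fun m => ?_⟩
  have h1 : lam (a.comp (conjBy M g)) = lam b := hg
  exact (DFunLike.congr_fun (lam_injective h1) m).symm

/-- Conjugate labels lie below the same characters. -/
theorem label_over {M : Subgroup G} [M.Normal] {χ : IrrCharacter G} {a b : M →* ℤˣ}
    (ha : Over M (lam a) χ) (g : G) (hg : ∀ m, b m = a (conjBy M g m)) : Over M (lam b) χ := by
  haveI := Fintype.ofFinite G
  haveI := Fintype.ofFinite M
  rw [over_iff] at ha ⊢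
  refine ⟨ha.1, ?_⟩
  rw [show lam b = conjFn M g (lam a) from funext fun m => by
    show lam b m = lam a (conjBy M g m)
    rw [lam_apply, lam_apply, hg],
    inner_restrict_conjFn M (Chars.isClassFunction_irr χ)]
  exact ha.2

/-- Membership in the normaliser inside an overgroup. -/
theorem mem_normalizer_subgroupOf {P T : Subgroup G} (hPT : P ≤ T) (x : T) :
    x ∈ Subgroup.normalizer ((P.subgroupOf T : Subgroup T) : Set T) ↔
      (x : G) ∈ Subgroup.normalizer (P : Set G) := by
  rw [Subgroup.mem_normalizer_iff, Subgroup.mem_normalizer_iff]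
  constructor
  · intro h y
    constructor
    · intro hy
      simpa [Subgroup.mem_subgroupOf] using (h ⟨y, hPT hy⟩).1 hy
    · intro hy
      have hyT : y ∈ T := by
        have := T.mul_mem (T.mul_mem (T.inv_mem x.2) (hPT hy)) x.2
        simpa [mul_assoc] using this
      exact (h ⟨y, hyT⟩).2 (by simpa [Subgroup.mem_subgroupOf] using hy)
  · intro h y
    simpa [Subgroup.mem_subgroupOf] using h (y : G)

/-- The step across an elementary abelian two-section. -/
theorem two_step {R M : Subgroup G} [R.Normal] [M.Normal] (hs : Sec R M 2) (P : Sylow 2 G)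
    (ih : ∀ (T : Subgroup G) (h : (P : Subgroup G) ≤ T), M ≤ T →
      Main (M.subgroupOf T) (P.subtype h)) : Main R P := by
  classical
  haveI := Fintype.ofFinite G
  haveI := Fintype.ofFinite M
  set N := Subgroup.normalizer ((P : Subgroup G) : Set G) with hN
  haveI := Fintype.ofFinite N
  haveI := Fintype.ofFinite (M.subgroupOf N)
  have hPN : (P : Subgroup G) ≤ N := Subgroup.le_normalizer
  set PN : Sylow 2 N := P.subtype hPN with hPNdef
  have hPNmem : ∀ x : N, x ∈ (PN : Subgroup N) ↔ (x : G) ∈ (P : Subgroup G) := fun x => by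
    rw [hPNdef, Sylow.coe_subtype, Subgroup.mem_subgroupOf]
  have hsN := hs.restrict N
  let Λ : Type u := {l : M →* ℤˣ // (∀ m : M, (m : G) ∈ R → l m = 1) ∧
    ∀ g ∈ (P : Subgroup G), ∀ m, l (conjBy M g m) = l m}
  haveI : Finite (M →* ℤˣ) := Finite.of_injective _ DFunLike.coe_injective
  haveI : Finite Λ := Subtype.finite
  have hcm : ∀ (g k : G) (m : M), conjBy M (g * k) m = conjBy M g (conjBy M k m) := fun g k m =>
    Subtype.ext (by simp [conjBy, mul_assoc])
  let r : Setoid Λ :=
    { r := fun a b => ∃ n ∈ N, ∀ m, b.1 m = a.1 (conjBy M n m)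
      iseqv :=
        { refl := fun a => ⟨1, N.one_mem, fun m => congrArg a.1 (Subtype.ext (by simp [conjBy]))⟩
          symm := fun {a b} ⟨n, hn, h⟩ => ⟨n⁻¹, N.inv_mem hn, fun m => by
            rw [h, ← hcm, mul_inv_cancel]
            exact congrArg a.1 (Subtype.ext (by simp [conjBy]))⟩
          trans := fun {a b c} ⟨n, hn, h⟩ ⟨k, hk, h'⟩ => ⟨n * k, N.mul_mem hn hk, fun m => by
            rw [h', h, hcm]⟩ } }
  haveI : Fintype (Quotient r) := Fintype.ofFinite _
  have hres : ∀ (a : Λ) (n : N) (m : M.subgroupOf N),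
      resLabel a.1 N (conjBy (M.subgroupOf N) n m) = a.1 (conjBy M (n : G) ⟨((m : N) : G), m.2⟩) :=
    fun a n m => rfl
  -- R is killed below a label
  have hkill : ∀ (a : Λ) (χ : IrrCharacter G), Over M (lam a.1) χ → OddIn R χ := fun a χ h => by
    refine ⟨((over_iff M _ χ).1 h).1, trivial_of_constituent (M := R) hs.le χ (μ := cC.comp a.1)
      ((over_iff M _ χ).1 h).2 fun m hm => ?_⟩
    rw [MonoidHom.comp_apply, a.2.1 m hm, map_one]
  have hkill' : ∀ (a : Λ) (ψ : IrrCharacter N), Over (M.subgroupOf N) (lam (resLabel a.1 N)) ψ →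
      OddIn (R.subgroupOf N) ψ := fun a ψ h => by
    refine ⟨((over_iff _ _ ψ).1 h).1, trivial_of_constituent (M := R.subgroupOf N) hsN.le ψ
      (μ := cC.comp (resLabel a.1 N)) ((over_iff _ _ ψ).1 h).2 fun m hm => ?_⟩
    rw [MonoidHom.comp_apply, show resLabel a.1 N m = 1 from a.2.1 _ hm, map_one]
  -- existence of labels
  have hex : ∀ χ : IrrCharacter G, OddIn R χ → ∃ a : Λ, Over M (lam a.1) χ := fun χ hχ => by
    obtain ⟨l, h1, h2, h3⟩ := exists_label hs P hχ
    exact ⟨⟨l, h1, h2⟩, h3⟩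
  have hex' : ∀ ψ : IrrCharacter N, OddIn (R.subgroupOf N) ψ →
      ∃ a : Λ, Over (M.subgroupOf N) (lam (resLabel a.1 N)) ψ := fun ψ hψ => by
    obtain ⟨l', h1, h2, h3⟩ := exists_label hsN PN hψ
    let j : (M ⊓ N : Subgroup G) →* M.subgroupOf N :=
      { toFun := fun x => ⟨⟨x, x.2.2⟩, x.2.1⟩, map_one' := rfl, map_mul' := fun _ _ => rfl }
    obtain ⟨l, hl, hlR⟩ := ext_hom (H := M) (K := R) (L := M ⊓ N) hs.le inf_le_left (fun h hh => by
      obtain ⟨x, hx, y, hy, e⟩ := mem_sup_inter hs P h hh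
      exact ⟨x, hx, y, ⟨hy.1, hPN hy.2⟩, e⟩) (l'.comp j) fun x hx => h1 _ hx
    have hval : ∀ (m : M) (hm : (m : G) ∈ N), l m = l' ⟨⟨m, hm⟩, m.2⟩ := fun m hm =>
      hl ⟨m, m.2, hm⟩
    refine ⟨⟨l, hlR, fun g hg m => ?_⟩, ?_⟩
    · have e : l.comp (conjBy M g) = l := hom_ext_inter hs P
        (fun m hm => hlR _ ((inferInstance : R.Normal).conj_mem _ hm g)) hlR fun m hm => by
          show l (conjBy M g m) = l m
          rw [hval _ (N.mul_mem (N.mul_mem (hPN hg) (hPN hm)) (N.inv_mem (hPN hg))),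
            hval m (hPN hm)]
          exact h2 ⟨g, hPN hg⟩ ((hPNmem _).2 hg) ⟨⟨m, hPN hm⟩, m.2⟩
      exact DFunLike.congr_fun e m
    · rw [show resLabel l N = l' from MonoidHom.ext fun m => hval ⟨((m : N) : G), m.2⟩ (m : N).2]
      exact h3
  -- conjugacy of labels
  have hiff : ∀ (χ : IrrCharacter G) (a : Λ), Over M (lam a.1) χ →
      ∀ b : Λ, Over M (lam b.1) χ ↔ r a b := by
    intro χ a ha b
    refine ⟨fun hb => ?_, fun ⟨n, _, hn⟩ => label_over ha n hn⟩
    obtain ⟨g, hg⟩ := label_conj ha hb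
    set I := inertia M (lam a.1) with hI
    have hmem : ∀ x : G, x ∈ I ↔ ∀ m, a.1 (conjBy M x m) = a.1 m := fun x => by
      rw [hI, mem_inertia]
      refine ⟨fun h m => cC_injective (Units.ext (h m)), fun h m => ?_⟩
      rw [lam_apply, lam_apply, h]
    have h1 : (P : Subgroup G) ≤ I := fun x hx => (hmem x).2 (a.2.2 x hx)
    have h2 : ((g • P : Sylow 2 G) : Subgroup G) ≤ I := by
      intro x hx
      rw [Sylow.coe_subgroup_smul, Subgroup.mem_pointwise_smul_iff_inv_smul_mem] at hx
      have hx' : g⁻¹ * x * g ∈ (P : Subgroup G) := by simpa using hx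
      refine (hmem x).2 fun m => ?_
      have h3 : b.1 (conjBy M (g⁻¹ * x * g) (conjBy M g⁻¹ m)) = b.1 (conjBy M g⁻¹ m) :=
        b.2.2 _ hx' _
      rw [hg, hg, ← hcm, ← hcm, ← hcm, show g * (g⁻¹ * x * g) * g⁻¹ = x by group,
        mul_inv_cancel] at h3
      refine h3.trans (congrArg a.1 (Subtype.ext ?_))
      simp [conjBy]
    obtain ⟨t, ht⟩ := MulAction.exists_smul_eq I ((g • P).subtype h2) (P.subtype h1)
    rw [Sylow.smul_subtype] at ht
    have ht' := Sylow.subtype_injective ht
    refine ⟨(t : G) * g, ?_, fun m => ?_⟩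
    · rw [hN]
      exact Sylow.smul_eq_iff_mem_normalizer.1 (by rw [mul_smul]; exact ht')
    · rw [hcm, (hmem _).1 t.2, hg]
  have hiff' : ∀ (ψ : IrrCharacter N) (a : Λ), Over (M.subgroupOf N) (lam (resLabel a.1 N)) ψ →
      ∀ b : Λ, Over (M.subgroupOf N) (lam (resLabel b.1 N)) ψ ↔ r a b := by
    intro ψ a ha b
    refine ⟨fun hb => ?_, fun ⟨n, hn, hb⟩ => label_over ha ⟨n, hn⟩ fun m => hb ⟨_, m.2⟩⟩
    obtain ⟨n, hn⟩ := label_conj ha hb
    have e : b.1 = a.1.comp (conjBy M (n : G)) := hom_ext_inter hs P b.2.1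
      (fun m hm => a.2.1 _ ((inferInstance : R.Normal).conj_mem _ hm _)) fun m hm =>
        hn ⟨⟨m, hPN hm⟩, m.2⟩
    exact ⟨n, n.2, fun m => DFunLike.congr_fun e m⟩
  -- one label
  have hlabel : ∀ a : Λ,
      Nat.card {χ : IrrCharacter G // Over M (lam a.1) χ ∧ IsR (χ : G → ℂ)} =
        Nat.card {ψ : IrrCharacter N // Over (M.subgroupOf N) (lam (resLabel a.1 N)) ψ ∧
          IsR (ψ : N → ℂ)} ∧
      ((∀ χ : IrrCharacter G, Over M (lam a.1) χ → IsR (χ : G → ℂ)) ↔
        ∀ ψ : IrrCharacter N, Over (M.subgroupOf N) (lam (resLabel a.1 N)) ψ → IsR (ψ : N → ℂ)) := by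
    intro a
    set T := inertia M (lam a.1) with hT
    set T' := inertia (M.subgroupOf N) (lam (resLabel a.1 N)) with hT'
    have hmemT : ∀ x : G, x ∈ T ↔ ∀ m, a.1 (conjBy M x m) = a.1 m := fun x => by
      rw [hT, mem_inertia]
      refine ⟨fun h m => cC_injective (Units.ext (h m)), fun h m => ?_⟩
      rw [lam_apply, lam_apply, h]
    have hPT : (P : Subgroup G) ≤ T := fun x hx => (hmemT x).2 (a.2.2 x hx)
    have hMT : M ≤ T := le_inertia M
      (Chars.isClassFunction_of_isCharacter (Chars.isCharacter_of_irr (irr_lam a.1)))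
    have hmemT' : ∀ x : N, x ∈ T' ↔ (x : G) ∈ T := fun x => by
      rw [hT', mem_inertia, hmemT]
      constructor
      · intro h m
        have e : a.1.comp (conjBy M (x : G)) = a.1 := hom_ext_inter hs P
          (fun m hm => a.2.1 _ ((inferInstance : R.Normal).conj_mem _ hm _)) a.2.1 fun m hm =>
            cC_injective (Units.ext (h ⟨⟨m, hPN hm⟩, m.2⟩))
        exact DFunLike.congr_fun e m
      · intro h m
        rw [lam_apply, lam_apply]
        exact congrArg (fun u : ℤˣ => ((u : ℤ) : ℂ)) (h ⟨((m : N) : G), m.2⟩)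
    set PT : Sylow 2 T := P.subtype hPT with hPT'
    haveI := Fintype.ofFinite T
    obtain ⟨c1, c2⟩ := clifford_over a.1 (odd_index_of_ge P hPT)
    obtain ⟨d1, d2⟩ := clifford_over (resLabel a.1 N) (odd_index_of_ge PN fun x hx =>
      (hmemT' x).2 (hPT ((hPNmem x).1 hx)))
    let aT : M.subgroupOf T →* ℤˣ := resLabel a.1 T
    obtain ⟨e1, e2⟩ := link (hs.restrict T) PT aT (fun m hm => a.2.1 _ hm)
      (fun g m => (hmemT _).1 g.2 ⟨((m : T) : G), m.2⟩) (ih T hPT hMT)
    set NT := Subgroup.normalizer ((PT : Subgroup T) : Set T) with hNT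
    have hmemNT : ∀ x : T, x ∈ NT ↔ (x : G) ∈ N := fun x => by
      rw [hNT, hPT', Sylow.coe_subtype]; exact mem_normalizer_subgroupOf hPT x
    let e : T' ≃* NT :=
      { toFun := fun x => ⟨⟨((x : N) : G), (hmemT' _).1 x.2⟩, (hmemNT _).2 (x : N).2⟩
        invFun := fun y => ⟨⟨((y : T) : G), (hmemNT _).1 y.2⟩, (hmemT' _).2 (y : T).2⟩
        left_inv := fun _ => rfl
        right_inv := fun _ => rfl
        map_mul' := fun _ _ => rfl }
    have hov : ∀ ψ : IrrCharacter NT,
        Over ((M.subgroupOf N).subgroupOf T') (pullFn (M.subgroupOf N) T' (lam (resLabel a.1 N)))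
          (irrEquiv e ψ) ↔ Over ((M.subgroupOf T).subgroupOf NT) (lam (resLabel aT NT)) ψ := by
      have h1 : ∀ x : T', x ∈ (M.subgroupOf N).subgroupOf T' ↔
          e x ∈ (M.subgroupOf T).subgroupOf NT := fun x => by
        simp only [Subgroup.mem_subgroupOf]; exact Iff.rfl
      have h2 : ∀ m : (M.subgroupOf N).subgroupOf T',
          lam (resLabel aT NT) ⟨e m, (h1 m).1 m.2⟩ =
            pullFn (M.subgroupOf N) T' (lam (resLabel a.1 N)) m := fun m => by
        simp only [pullFn, lam_apply, resLabel, aT, MonoidHom.comp_apply, MonoidHom.coe_mk,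
          OneHom.coe_mk]
        rfl
      exact fun ψ => over_irrEquiv e _ _ h1 _ _ h2 ψ
    refine ⟨?_, ?_⟩
    · rw [c1, d1]
      refine e1.trans (Nat.card_congr ((irrEquiv e).subtypeEquiv fun ψ => ?_))
      exact (and_congr (hov ψ) (isR_irrEquiv e ψ)).symm
    · rw [c2, d2]
      refine e2.trans (Equiv.forall_congr (irrEquiv e) fun {ψ} => ?_)
      rw [hov ψ, isR_irrEquiv e ψ]
  refine ⟨?_, ?_⟩
  · have h1 := card_eq_sum r (fun (x : {χ : IrrCharacter G // OddIn R χ ∧ IsR (χ : G → ℂ)}) (a : Λ) =>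
      Over M (lam a.1) x.1) (fun x => hex x.1 x.2.1) (fun x => hiff x.1)
    have h2 := card_eq_sum r
      (fun (x : {ψ : IrrCharacter N // OddIn (R.subgroupOf N) ψ ∧ IsR (ψ : N → ℂ)}) (a : Λ) =>
        Over (M.subgroupOf N) (lam (resLabel a.1 N)) x.1) (fun x => hex' x.1 x.2.1)
      (fun x => hiff' x.1)
    show Nat.card _ = Nat.card _
    rw [h1, h2]
    refine Finset.sum_congr rfl fun q _ => ?_
    refine Eq.trans ?_ ((hlabel q.out).1.trans ?_)
    · exact Nat.card_congr
        { toFun := fun x => ⟨x.1.1, x.2, x.1.2.2⟩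
          invFun := fun x => ⟨⟨x.1, hkill _ _ x.2.1, x.2.2⟩, x.2.1⟩
          left_inv := fun _ => rfl, right_inv := fun _ => rfl }
    · exact Nat.card_congr
        { toFun := fun x => ⟨⟨x.1, hkill' _ _ x.2.1, x.2.2⟩, x.2.1⟩
          invFun := fun x => ⟨x.1.1, x.2, x.1.2.2⟩
          left_inv := fun _ => rfl, right_inv := fun _ => rfl }
  · constructor
    · intro h ψ hψ
      obtain ⟨a, ha⟩ := hex' ψ hψ
      exact (hlabel a).2.1 (fun χ hχ => h χ (hkill a χ hχ)) ψ ha
    · intro h χ hχ
      obtain ⟨a, ha⟩ := hex χ hχ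
      exact (hlabel a).2.2 (fun ψ hψ => h ψ (hkill' a ψ hψ)) χ ha

/-- The step across a section of odd exponent. -/
theorem odd_step {R M : Subgroup G} [R.Normal] [M.Normal] {q : ℕ} (hs : Sec R M q) (hq : Odd q)
    (P : Sylow 2 G) (ih : Main M P) : Main R P := by
  obtain ⟨h1, h2⟩ := ar_odd_step P hs hq
  refine ⟨?_, fun h => ?_, fun h => ?_⟩
  · rw [cnt_eq_of_odd hs hq, ih.1, cnt_eq_of_odd (hs.restrict _) hq]
  · intro ψ hψ
    exact ih.2.1 (fun χ hχ => h χ (hχ.mono hs.le)) ψ (h1 h ψ hψ)
  · intro χ hχ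
    exact ih.2.2 (fun ψ hψ => h ψ (hψ.mono (R := R.subgroupOf _) fun _ hx => hs.le hx)) χ (h2 h χ hχ)

/-- The only irreducible character with everything in its kernel. -/
theorem oddIn_top {χ : IrrCharacter G} (h : ∀ g : G, (χ : G → ℂ) g = (χ : G → ℂ) 1) :
    χ = Chars.principal G := by
  classical
  haveI := Fintype.ofFinite G
  have h1 : (fun g : G => (χ : G → ℂ) g) = (χ : G → ℂ) 1 • fun _ : G => (1 : ℂ) :=
    funext fun g => by simp [h g]
  by_contra hne
  have h2 := Chars.inner_irr_ne hne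
  rw [show (χ : G → ℂ) = (χ : G → ℂ) 1 • fun _ : G => (1 : ℂ) from h1,
    show (Chars.principal G : G → ℂ) = fun _ => 1 from funext Chars.principal_apply,
    Chars.inner_smul_left, Chars.inner_one_one, mul_one] at h2
  exact Chars.irr_degree_ne_zero χ.2 h2

theorem cnt_top : cnt (⊤ : Subgroup G) = 1 := by
  haveI : Nonempty {χ : IrrCharacter G // OddIn ⊤ χ ∧ IsR (χ : G → ℂ)} :=
    ⟨⟨Chars.principal G, ⟨by simp [charDegree, Chars.principal_apply], fun r _ => rfl⟩,
      fun g => by simp [Chars.principal_apply]⟩⟩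
  haveI : Subsingleton {χ : IrrCharacter G // OddIn ⊤ χ ∧ IsR (χ : G → ℂ)} :=
    ⟨fun a b => Subtype.ext ((oddIn_top fun g => a.2.1.2 g (Subgroup.mem_top g)).trans
      (oddIn_top fun g => b.2.1.2 g (Subgroup.mem_top g)).symm)⟩
  exact Nat.card_unique

theorem ar_top : AR (⊤ : Subgroup G) := fun χ hχ g => by
  rw [oddIn_top fun g => hχ.2 g (Subgroup.mem_top g)]; simp [Chars.principal_apply]

/-- The main comparison. -/
theorem main : ∀ (n : ℕ) (G : Type u) [Group G] [Finite G], Group.IsSolvable G →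
    ∀ (R : Subgroup G), R.Normal → R.index ≤ n → ∀ P : Sylow 2 G, Main R P := by
  intro n
  induction n with
  | zero =>
    intro G _ _ _ R _ h
    exact absurd (Nat.le_zero.1 h) Subgroup.index_ne_zero_of_finite
  | succ n ih =>
    intro G _ _ hsol R hR hn P
    classical
    rcases eq_or_ne R ⊤ with rfl | hne
    · refine ⟨?_, ?_⟩
      · rw [Subgroup.top_subgroupOf, cnt_top, cnt_top]
      · rw [Subgroup.top_subgroupOf]; exact iff_of_true ar_top ar_top
    haveI := hR
    haveI := hsol
    haveI : Nontrivial (G ⧸ R) := by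
      rw [← Finite.one_lt_card_iff_nontrivial, ← Subgroup.index_eq_card]
      exact Subgroup.one_lt_index_of_ne_top hne
    obtain ⟨A, hA⟩ := CfsgLib.Base.exists_isMinimalNormal (G := G ⧸ R)
    haveI := hA.normal
    obtain ⟨q, hq, hAc, hAe, -⟩ := hA.exists_prime inferInstance
    set M := A.comap (QuotientGroup.mk' R) with hM
    haveI : M.Normal := Subgroup.Normal.comap inferInstance _
    have hRM : R ≤ M := fun r hr => by
      rw [hM, Subgroup.mem_comap, show QuotientGroup.mk' R r = 1 from (QuotientGroup.eq_one_iff r).2 hr]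
      exact A.one_mem
    have hs : Sec R M q := by
      refine ⟨hRM, fun x hx y hy => ?_, fun x hx => ?_⟩
      · rw [← QuotientGroup.eq_one_iff]
        have hc : QuotientGroup.mk' R x * QuotientGroup.mk' R y =
            QuotientGroup.mk' R y * QuotientGroup.mk' R x :=
          congrArg Subtype.val (hAc.is_comm.comm ⟨_, hx⟩ ⟨_, hy⟩)
        show QuotientGroup.mk' R (x * y * x⁻¹ * y⁻¹) = 1
        rw [map_mul, map_mul, map_mul, map_inv, map_inv, hc]; group
      · rw [← QuotientGroup.eq_one_iff, QuotientGroup.mk_pow]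
        exact hAe _ hx
    have hlt : M.index < R.index := by
      have h1 : R.relIndex M * M.index = R.index := Subgroup.relIndex_mul_index hRM
      have h2 : 1 < R.relIndex M := by
        by_contra h
        push Not at h
        have h3 : R.relIndex M = 1 := le_antisymm h (Nat.one_le_iff_ne_zero.2
          Subgroup.index_ne_zero_of_finite)
        refine hA.ne_bot (le_bot_iff.1 fun a ha => ?_)
        obtain ⟨x, rfl⟩ := QuotientGroup.mk'_surjective R a
        exact Subgroup.mem_bot.2 ((QuotientGroup.eq_one_iff x).2 (Subgroup.relIndex_eq_one.1 h3 ha))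
      rw [← h1]
      exact lt_mul_left (Nat.pos_of_ne_zero Subgroup.index_ne_zero_of_finite) h2
    rcases hq.eq_two_or_odd' with rfl | hodd
    · refine two_step hs P fun T hPT hMT => ih T inferInstance (M.subgroupOf T) inferInstance ?_ _
      show M.relIndex T ≤ n
      have : M.relIndex T ≤ M.index := Nat.le_of_dvd
        (Nat.pos_of_ne_zero Subgroup.index_ne_zero_of_finite) (Subgroup.relIndex_dvd_index_of_normal M T)
      omega
    · exact odd_step hs hodd P (ih G hsol M inferInstance (by omega) P)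

/-- Final form. -/
theorem comparison [Group.IsSolvable G] (P : Sylow 2 G) : Main (⊥ : Subgroup G) P :=
  main _ G inferInstance ⊥ inferInstance le_rfl P

theorem oddIn_bot (χ : IrrCharacter G) : OddIn ⊥ χ ↔ Odd (charDegree (χ : G → ℂ)) :=
  ⟨fun h => h.1, fun h => ⟨h, fun r hr => by rw [Subgroup.mem_bot.1 hr]⟩⟩

/-- When all characters of odd degree of a group with normal Sylow two-subgroup are real. -/
theorem ar_normal_sylow (P : Sylow 2 G) [(P : Subgroup G).Normal] :
    AR (⊥ : Subgroup G) ↔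
      (commutator (P : Subgroup G) = frattini (P : Subgroup G) ∧ (P : Subgroup G) = ⊤) := by
  classical
  haveI := Fintype.ofFinite G
  constructor
  · intro h
    have htop : (P : Subgroup G) = ⊤ := by
      rw [← Subgroup.index_eq_one, Subgroup.index_eq_card]
      have hodd : Odd (Nat.card (G ⧸ (P : Subgroup G))) := by
        rw [← Subgroup.index_eq_card]; exact odd_index_of_ge P le_rfl
      have hsub : ∀ χ : IrrCharacter (G ⧸ (P : Subgroup G)), χ = Chars.principal _ := fun χ => by
        refine Chars.eq_principal_of_real_of_odd hodd χ fun x => ?_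
        obtain ⟨g, rfl⟩ := QuotientGroup.mk_surjective x
        have hd : Odd (charDegree (CharApps.inflate (P : Subgroup G) χ : G → ℂ)) := by
          rw [CharApps.inflate_charDegree]
          obtain ⟨m, -, hm, hdvd⟩ := Chars.irr_degree_dvd_card χ.2
          rw [CharApps.deg_eq, Nat.cast_inj] at hm
          exact hodd.of_dvd_nat (hm ▸ hdvd)
        have := h _ ((oddIn_bot _).2 hd) g
        rwa [CharApps.inflate_apply] at this
      haveI : Subsingleton (IrrCharacter (G ⧸ (P : Subgroup G))) :=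
        ⟨fun a b => (hsub a).trans (hsub b).symm⟩
      haveI := Chars.irrFintype (G ⧸ (P : Subgroup G))
      haveI := Fintype.ofFinite (G ⧸ (P : Subgroup G))
      have h1 := Chars.sum_degree_sq (G := G ⧸ (P : Subgroup G))
      rw [Fintype.sum_subsingleton _ (Chars.principal (G ⧸ (P : Subgroup G))), Chars.principal_apply,
        one_pow] at h1
      exact_mod_cast h1.symm
    refine ⟨le_antisymm (PGroups.commutator_le_frattini P.isPGroup') fun x hx => ?_, htop⟩
    by_contra hxc
    obtain ⟨φ, hφ⟩ := CharsMore.FullyRamified.exists_hom_ne_one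
      (C := Abelianization (P : Subgroup G)) (c := Abelianization.of x) (fun e => hxc (by
        rwa [← MonoidHom.mem_ker, Abelianization.ker_of] at e))
    set μ : (P : Subgroup G) →* ℂˣ := φ.comp Abelianization.of with hμ
    have hsq : ∀ y, μ y ^ 2 = 1 := by
      intro y
      let μG : G →* ℂˣ := μ.comp
        { toFun := fun g => ⟨g, htop ▸ Subgroup.mem_top g⟩, map_one' := rfl, map_mul' := fun _ _ => rfl }
      have hr := isR_conj_eq.1 (h ⟨linC μG, irr_linC μG⟩
        ((oddIn_bot _).2 (by simp [charDegree, linC_one])))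
      have h2 : (μG y : ℂ) * conj (μG y : ℂ) = 1 := by
        have hu := Chars.irr_inv ⟨linC μG, irr_linC μG⟩ (y : G)
        show (μG y : ℂ) * conj (linC μG y) = 1
        rw [← hu]
        simp [linC]
      rw [show conj (μG y : ℂ) = (μG y : ℂ) from hr y] at h2
      exact Units.ext (by rw [Units.val_pow_eq_pow_val, sq, Units.val_one]; exact h2)
    obtain ⟨s, hs⟩ := exists_sign μ hsq
    have hsne : s x ≠ 1 := fun e => hφ (by
      have := hs x
      rw [e, map_one] at this
      exact this.symm)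
    have hco : IsCoatom s.ker := by
      refine ⟨fun e => hsne (MonoidHom.mem_ker.1 (e ▸ Subgroup.mem_top x)), fun K hK => ?_⟩
      obtain ⟨y, hyK, hy⟩ := SetLike.exists_of_lt hK
      refine top_le_iff.1 fun z _ => ?_
      have hy1 : s y = -1 := (Int.units_eq_one_or (s y)).resolve_left hy
      rcases Int.units_eq_one_or (s z) with hz | hz
      · exact hK.le hz
      · have hzy : z * y⁻¹ ∈ s.ker := by
          rw [MonoidHom.mem_ker, map_mul, map_inv, hz, hy1, mul_inv_cancel]
        simpa using K.mul_mem (hK.le hzy) hyK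
    exact hsne (MonoidHom.mem_ker.1 (frattini_le_coatom hco hx))
  · rintro ⟨hΦ, htop⟩ χ hχ g
    haveI : (⊥ : Subgroup G).Normal := inferInstance
    have h2 : IsPGroup 2 G := fun y => by
      obtain ⟨k, hk⟩ := P.isPGroup' ⟨y, htop ▸ Subgroup.mem_top y⟩
      exact ⟨k, congrArg Subtype.val hk⟩
    have hd1 : (χ : G → ℂ) 1 = 1 := by
      obtain ⟨m, -, hm, hdvd⟩ := Chars.irr_degree_dvd_card χ.2
      rw [CharApps.deg_eq, Nat.cast_inj] at hm
      obtain ⟨j, hj⟩ := h2.exists_card_eq
      rw [hj] at hdvd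
      obtain ⟨i, -, hi⟩ := (Nat.dvd_prime_pow Nat.prime_two).1 (hm ▸ hdvd)
      rw [CharApps.deg_eq, hi]
      rcases i with _ | i
      · simp
      · exact absurd hχ.1 (by rw [hi, Nat.not_odd_iff_even]; exact ⟨2 ^ i, by ring⟩)
    obtain ⟨μ, hμ⟩ := Chars.exists_hom_of_degree_one (Chars.isCharacter_of_irr χ.2) hd1
    let μP : (P : Subgroup G) →* ℂˣ := μ.comp (P : Subgroup G).subtype
    have hsq : μ g ^ 2 = 1 := by
      have hmem : (⟨g, htop ▸ Subgroup.mem_top g⟩ : (P : Subgroup G)) ^ 2 ∈
          commutator (P : Subgroup G) := by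
        rw [hΦ]; exact PGroups.pow_mem_frattini P.isPGroup' _
      have := Abelianization.commutator_subset_ker μP hmem
      rwa [MonoidHom.mem_ker, map_pow] at this
    have h3 : (χ : G → ℂ) g * (χ : G → ℂ) g = 1 := by
      rw [hμ, ← Units.val_mul, ← sq, hsq, Units.val_one]
    rcases mul_self_eq_one_iff.1 h3 with h4 | h4 <;> simp [h4]

end CfsgLib.RealOdd
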