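import Cfsg.Agent.Lib.CharApps.RealOdd.Basic

/-!
# Real characters of odd degree across an abelian section of odd exponent
-/

set_option autoImplicit false
set_option linter.unusedSectionVars false
set_option linter.style.haveILetI false

namespace CfsgLib.RealOdd

open Cfsg CfsgLib.CharsMore
open scoped ComplexConjugate

universe u

variable {G : Type u} [Group G] [Finite G]

/-- Section data: `R ≤ M` normal with abelian section of exponent dividing `q`. -/
structure Sec (R M : Subgroup G) (q : ℕ) : Prop where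
  le : R ≤ M
  ab : ∀ x ∈ M, ∀ y ∈ M, x * y * x⁻¹ * y⁻¹ ∈ R
  exp : ∀ x ∈ M, x ^ q ∈ R

theorem Sec.restrict {R M : Subgroup G} {q : ℕ} (h : Sec R M q) (N : Subgroup G) :
    Sec (R.subgroupOf N) (M.subgroupOf N) q :=
  ⟨fun _ hx => h.le hx, fun x hx y hy => h.ab _ hx _ hy, fun x hx => h.exp _ hx⟩

/-- Odd degree, trivial on a section, restricted homomorphism. -/
theorem kills_of_constituent {R M H : Subgroup G} [M.Normal] (hMH : M ≤ H) [Fintype H]
    {χ : IrrCharacter G} (hχ : ∀ m ∈ M, (χ : G → ℂ) m = (χ : G → ℂ) 1) {μ : H →* ℂˣ}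
    (hne : classInner (fun h : H => (χ : G → ℂ) h) (linC μ) ≠ 0) :
    ∀ m : H, (m : G) ∈ M → μ m = 1 := by
  classical
  haveI : Fintype (M.subgroupOf H) := Fintype.ofFinite _
  obtain ⟨f, hf⟩ := Berger.mult_of_homog (Chars.isCharacter_restrict H
    (Chars.isCharacter_of_irr χ.2)) (irr_linC μ) hne (M.subgroupOf H).subtype
    (ϕ := fun _ => 1) Chars.isIrrCharacter_one (c := (χ : G → ℂ) 1)
    (fun x => by rw [mul_one]; exact hχ _ x.2)
  intro m hm
  have h1 : linC μ m = (f : ℂ) * 1 := hf ⟨m, hm⟩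
  have h2 := hf 1
  rw [map_one] at h2
  rw [linC_one] at h2
  rw [← h2] at h1
  exact Units.ext h1

/-- `2`-relative index of the join with a Sylow `2`-subgroup. -/
theorem exists_relIndex_two_pow (P : Sylow 2 G) (M : Subgroup G) [M.Normal] :
    ∃ k, M.relIndex (M ⊔ (P : Subgroup G)) = 2 ^ k := by
  obtain ⟨j, hj⟩ := P.isPGroup'.exists_card_eq
  rw [sup_comm, Subgroup.relIndex_sup_right]
  obtain ⟨k, -, hk⟩ := (Nat.dvd_prime_pow Nat.prime_two).1
    (hj ▸ (M.subgroupOf (P : Subgroup G)).index_dvd_card)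
  exact ⟨k, hk⟩

theorem odd_index_of_ge (P : Sylow 2 G) {H : Subgroup G} (h : (P : Subgroup G) ≤ H) :
    Odd H.index := by
  rw [Nat.odd_iff]
  rcases Nat.mod_two_eq_zero_or_one H.index with h0 | h1
  · exact absurd ((Nat.dvd_of_mod_eq_zero h0).trans (Subgroup.index_dvd_of_le h)) P.not_dvd_index
  · exact h1

/-- A character trivial on `M` from the triviality of its linear constituents. -/
theorem trivial_of_constituent {M H : Subgroup G} [M.Normal] (hMH : M ≤ H) [Fintype H]
    (χ : IrrCharacter G) {μ : H →* ℂˣ}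
    (hne : classInner (fun h : H => (χ : G → ℂ) h) (linC μ) ≠ 0)
    (hμ : ∀ m : H, (m : G) ∈ M → μ m = 1) :
    ∀ m ∈ M, (χ : G → ℂ) m = (χ : G → ℂ) 1 := by
  classical
  haveI := Fintype.ofFinite G
  haveI := Fintype.ofFinite M
  refine kernel_of_inner χ ?_
  refine inner_ne_zero_of_constituent (Chars.isCharacter_restrict H (Chars.isCharacter_of_irr χ.2))
    (irr_linC μ) hne (Subgroup.inclusion hMH) Chars.isCharacter_one ?_
  rw [show (fun x : M => linC μ (Subgroup.inclusion hMH x)) = fun _ : M => (1 : ℂ) from funext fun x => by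
    simp [linC, hμ (Subgroup.inclusion hMH x) x.2]]
  rw [Chars.inner_one_one]
  exact one_ne_zero

/-- Real characters of odd degree are trivial on sections of odd exponent. -/
theorem real_trivial {R M : Subgroup G} [R.Normal] [M.Normal] {q : ℕ} (hs : Sec R M q) (hq : Odd q)
    {χ : IrrCharacter G} (hχ : OddIn R χ) (hr : IsR (χ : G → ℂ)) : OddIn M χ := by
  haveI := Fintype.ofFinite M
  obtain ⟨μ, hμR, hne, hμ2⟩ := exists_linear_on hs.le hs.ab le_rfl (k := 0) (by simp) hχ
  refine ⟨hχ.1, trivial_of_constituent le_rfl χ hne fun m _ => ?_⟩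
  have h1 : μ m ^ q = 1 := by
    rw [← map_pow]; exact hμR _ (hs.exp _ m.2)
  obtain ⟨r, rfl⟩ := hq
  rwa [pow_succ, pow_mul, hμ2 hr m, one_pow, one_mul] at h1

theorem cnt_eq_of_odd {R M : Subgroup G} [R.Normal] [M.Normal] {q : ℕ} (hs : Sec R M q) (hq : Odd q) :
    cnt R = cnt M :=
  Nat.card_congr (Equiv.subtypeEquivRight fun _ =>
    ⟨fun h => ⟨real_trivial hs hq h.1 h.2, h.2⟩, fun h => ⟨h.1.mono hs.le, h.2⟩⟩)

/-- A linear character of odd index which is nontrivial on the section yields a nonreal character. -/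
theorem exists_nonreal {R M H : Subgroup G} [R.Normal] [M.Normal] {q : ℕ} (hs : Sec R M q)
    (hq : Odd q) (hMH : M ≤ H) (hodd : Odd H.index) (μ : H →* ℂˣ)
    (hR : ∀ h : H, (h : G) ∈ R → μ h = 1) (hne : ∃ m : H, (m : G) ∈ M ∧ μ m ≠ 1) : ¬ AR R := by
  haveI := Fintype.ofFinite H
  obtain ⟨χ, hd, hχ⟩ := exists_odd_over H hodd μ
  intro hAR
  have hχR : OddIn R χ := ⟨hd, trivial_of_constituent (hs.le.trans hMH) χ hχ hR⟩
  obtain ⟨m, hm, hm1⟩ := hne
  exact hm1 (kills_of_constituent (R := R) hMH (real_trivial hs hq hχR (hAR χ hχR)).2 hχ m hm)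

/-- The equivalence for sections of odd exponent. -/
theorem ar_odd_step (P : Sylow 2 G) {R M : Subgroup G} [R.Normal] [M.Normal] {q : ℕ}
    (hs : Sec R M q) (hq : Odd q) :
    let N := Subgroup.normalizer ((P : Subgroup G) : Set G)
    (AR R → ∀ ψ : IrrCharacter N, OddIn (R.subgroupOf N) ψ → OddIn (M.subgroupOf N) ψ) ∧
    (AR (R.subgroupOf N) → ∀ χ : IrrCharacter G, OddIn R χ → OddIn M χ) := by
  classical
  intro N
  have hPN : (P : Subgroup G) ≤ N := Subgroup.le_normalizer
  set PN : Sylow 2 N := P.subtype hPN with hPNdef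
  have hPNmem : ∀ x : N, x ∈ (PN : Subgroup N) ↔ (x : G) ∈ (P : Subgroup G) := fun x => by
    rw [hPNdef, Sylow.coe_subtype, Subgroup.mem_subgroupOf]
  have hPNn : (PN : Subgroup N).Normal := by
    rw [hPNdef, Sylow.coe_subtype]; exact Subgroup.normal_in_normalizer
  have hsN := hs.restrict N
  haveI : (R.subgroupOf N).Normal := inferInstance
  haveI : (M.subgroupOf N).Normal := inferInstance
  constructor
  · intro hAR ψ hψ
    refine ⟨hψ.1, ?_⟩
    set H' : Subgroup N := M.subgroupOf N ⊔ (PN : Subgroup N) with hH'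
    haveI := Fintype.ofFinite H'
    obtain ⟨k, hk⟩ := exists_relIndex_two_pow PN (M.subgroupOf N)
    obtain ⟨μ', hμR, hne, -⟩ := exists_linear_on hsN.le hsN.ab le_sup_left hk hψ
    refine trivial_of_constituent (M := M.subgroupOf N) (le_sup_left : M.subgroupOf N ≤ H') ψ hne ?_
    by_contra hno
    push Not at hno
    obtain ⟨m₀, hm₀, hm₀1⟩ := hno
    -- extend to the section
    set MN : Subgroup G := M ⊓ N with hMN
    let j : MN →* H' :=
      { toFun := fun x => ⟨⟨x, x.2.2⟩, (le_sup_left : M.subgroupOf N ≤ H') x.2.1⟩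
        map_one' := rfl, map_mul' := fun _ _ => rfl }
    obtain ⟨θ₁, hθ₁, hθ₁R⟩ := ext_hom (H := R ⊔ MN) (K := R) (L := MN) le_sup_left le_sup_right
      (fun h hh => by
        rw [← SetLike.mem_coe, Subgroup.normal_mul R MN] at hh
        exact hh) (μ'.comp j) fun l hl => hμR _ hl
    have hle : R ⊔ MN ≤ M := sup_le hs.le inf_le_left
    letI : CommGroup (M ⧸ R.subgroupOf M) :=
      { (inferInstance : Group (M ⧸ R.subgroupOf M)) with
        mul_comm := fun a b => by
          obtain ⟨x, rfl⟩ := QuotientGroup.mk_surjective a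
          obtain ⟨y, rfl⟩ := QuotientGroup.mk_surjective b
          rw [← mul_inv_eq_one, mul_inv_rev, ← mul_assoc, ← QuotientGroup.mk_inv,
            ← QuotientGroup.mk_inv, ← QuotientGroup.mk_mul, ← QuotientGroup.mk_mul,
            ← QuotientGroup.mk_mul, QuotientGroup.eq_one_iff, Subgroup.mem_subgroupOf]
          exact hs.ab _ x.2 _ y.2 }
    let q' : M →* M ⧸ R.subgroupOf M := QuotientGroup.mk' _
    let S : Subgroup M := (R ⊔ MN).subgroupOf M
    let g : S →* S.map q' := q'.subgroupMap S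
    let θ₁' : S →* ℂˣ := θ₁.comp
      { toFun := fun x => ⟨((x : M) : G), x.2⟩, map_one' := rfl, map_mul' := fun _ _ => rfl }
    have hker : g.ker ≤ θ₁'.ker := fun x hx => by
      rw [MonoidHom.mem_ker] at hx ⊢
      have h1 : q' (x : M) = 1 := congrArg Subtype.val hx
      exact hθ₁R _ ((QuotientGroup.eq_one_iff (N := R.subgroupOf M) _).1 h1)
    have hg : Function.Surjective g := q'.subgroupMap_surjective S
    obtain ⟨F, hF⟩ := MonoidHom.domRestrict_surjective (M := ℂ) (S.map q')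
      (g.liftOfSurjective hg ⟨θ₁', hker⟩)
    set θ₀ : M →* ℂˣ := F.comp q' with hθ₀
    have hθ₀R : ∀ m : M, (m : G) ∈ R → θ₀ m = 1 := fun m hm => by
      rw [hθ₀, MonoidHom.comp_apply, show q' m = 1 from (QuotientGroup.eq_one_iff _).2 hm, map_one]
    have hθ₀MN : ∀ (m : M) (hm : (m : G) ∈ MN), θ₀ m = μ' (j ⟨m, hm⟩) := fun m hm => by
      have hmS : m ∈ S := Subgroup.mem_sup_right hm
      have h1 := DFunLike.congr_fun hF (g ⟨m, hmS⟩)
      have h2 : (g.liftOfSurjective hg ⟨θ₁', hker⟩) (g ⟨m, hmS⟩) = θ₁' ⟨m, hmS⟩ :=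
        g.liftOfRightInverse_comp_apply _ (Function.rightInverse_surjInv hg) ⟨θ₁', hker⟩ ⟨m, hmS⟩
      exact h1.trans (h2.trans (hθ₁ ⟨m, hm⟩))
    letI : Fintype (P : Subgroup G) := Fintype.ofFinite _
    let θ : M →* ℂˣ :=
      { toFun := fun m => ∏ x : (P : Subgroup G), θ₀ (conjBy M (x : G) m)
        map_one' := by simp
        map_mul' := fun a b => by simp [Finset.prod_mul_distrib] }
    have hθP : ∀ g ∈ (P : Subgroup G), ∀ m : M, θ (conjBy M g m) = θ m := fun g hg m => by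
      show ∏ x : (P : Subgroup G), θ₀ (conjBy M (x : G) (conjBy M g m)) =
        ∏ x : (P : Subgroup G), θ₀ (conjBy M (x : G) m)
      refine Fintype.prod_equiv (Equiv.mulRight (⟨g, hg⟩ : (P : Subgroup G))) _ _ fun x =>
        congrArg θ₀ (Subtype.ext ?_)
      simp [conjBy, mul_assoc]
    have hθR : ∀ m : M, (m : G) ∈ R → θ m = 1 := fun m hm =>
      Finset.prod_eq_one fun x _ => hθ₀R _ ((inferInstance : R.Normal).conj_mem _ hm _)
    have hθq : ∀ m : M, θ m ^ q = 1 := fun m => by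
      rw [← map_pow]; exact hθR _ (hs.exp _ m.2)
    -- θ is nontrivial
    let m₁ : M := ⟨((m₀ : N) : G), hm₀⟩
    have hθm₁ : θ m₁ ≠ 1 := by
      have h1 : θ m₁ = μ' m₀ ^ Nat.card (P : Subgroup G) := by
        show ∏ x : (P : Subgroup G), θ₀ (conjBy M (x : G) m₁) = _
        rw [Finset.prod_eq_pow_card (b := μ' m₀) (fun x _ => ?_), Finset.card_univ,
          Nat.card_eq_fintype_card]
        have hxm : ((conjBy M (x : G) m₁ : M) : G) ∈ MN :=
          ⟨(conjBy M (x : G) m₁).2, N.mul_mem (N.mul_mem (hPN x.2) (m₀ : N).2) (N.inv_mem (hPN x.2))⟩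
        rw [hθ₀MN _ hxm]
        have hxH : (⟨x, hPN x.2⟩ : N) ∈ H' :=
          (le_sup_right : (PN : Subgroup N) ≤ H') ((hPNmem _).2 x.2)
        rw [show j ⟨_, hxm⟩ = ⟨_, hxH⟩ * m₀ * (⟨_, hxH⟩ : H')⁻¹ from Subtype.ext (Subtype.ext rfl),
          map_mul, map_mul, map_inv, mul_comm (μ' ⟨_, hxH⟩), mul_inv_cancel_right]
      intro h0
      rw [h1] at h0
      obtain ⟨i, hi⟩ := P.isPGroup'.exists_card_eq
      rw [hi] at h0
      have hq2 : Nat.Coprime (2 ^ i) q :=
        ((Nat.coprime_two_left).2 hq).pow_left i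
      have hmq : μ' m₀ ^ q = 1 := by
        rw [← map_pow]; exact hμR _ (hsN.exp _ hm₀)
      exact hm₀1 ((orderOf_eq_one_iff).1 (Nat.eq_one_of_dvd_coprimes hq2
        (orderOf_dvd_of_pow_eq_one h0) (orderOf_dvd_of_pow_eq_one hmq)))
    -- extend to M ⊔ P
    set H := M ⊔ (P : Subgroup G) with hH
    let eM := Subgroup.subgroupOfEquivOfLe (le_sup_left : M ≤ H)
    let l : M.subgroupOf H →* ℂˣ := θ.comp eM.toMonoidHom
    obtain ⟨k', hk'⟩ := exists_relIndex_two_pow P M
    have hinv := invariant_of_sup θ hθP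
    obtain ⟨μ, ⟨hμ, -⟩, -⟩ := exists_coprime_ext (M.subgroupOf H) l
      (fun g n => (congrArg θ (Subtype.ext rfl)).trans (hinv _ g.2 (eM n))) (by
        have : (M.subgroupOf H).index = 2 ^ k' := hk'
        rw [this]
        exact (((Nat.coprime_two_left).2 hq).coprime_dvd_right
          (orderOf_dvd_of_pow_eq_one (MonoidHom.ext fun n => by
            rw [MonoidHom.pow_apply]; exact hθq _))).pow_left k')
    refine exists_nonreal hs hq le_sup_left (odd_index_of_ge P le_sup_right) μ (fun h hh => ?_)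
      ⟨⟨_, (le_sup_left : M ≤ H) m₁.2⟩, m₁.2, ?_⟩ hAR
    · rw [show h = ((⟨h, hs.le hh⟩ : M.subgroupOf H) : H) from rfl, hμ]
      exact hθR _ hh
    · rw [show (⟨(m₁ : G), (le_sup_left : M ≤ H) m₁.2⟩ : H) =
        ((⟨⟨(m₁ : G), (le_sup_left : M ≤ H) m₁.2⟩, m₁.2⟩ : M.subgroupOf H) : H) from rfl, hμ]
      exact hθm₁
  · intro hAR χ hχ
    refine ⟨hχ.1, ?_⟩
    set H := M ⊔ (P : Subgroup G) with hH
    haveI := Fintype.ofFinite H
    obtain ⟨k, hk⟩ := exists_relIndex_two_pow P M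
    obtain ⟨μ, hμR, hne, -⟩ := exists_linear_on hs.le hs.ab le_sup_left hk hχ
    refine trivial_of_constituent (M := M) (le_sup_left : M ≤ H) χ hne ?_
    by_contra hno
    push Not at hno
    obtain ⟨m, hm, hm1⟩ := hno
    -- Frattini
    set PH : Sylow 2 H := P.subtype le_sup_right with hPH
    set K : Subgroup H := μ.ker ⊔ (PH : Subgroup H) with hK
    haveI : K.Normal := ⟨fun x hx g => by
      have h1 : g * x * g⁻¹ * x⁻¹ ∈ μ.ker := by
        rw [MonoidHom.mem_ker, map_mul, map_mul, map_mul, map_inv, map_inv, mul_comm (μ g),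
          mul_inv_cancel_right, mul_inv_cancel]
      simpa using K.mul_mem ((le_sup_left : μ.ker ≤ K) h1) hx⟩
    have hfr := Sylow.normalizer_sup_eq_top' PH (le_sup_right : (PH : Subgroup H) ≤ K)
    set T : Subgroup H := Subgroup.normalizer ((PH : Subgroup H) : Set H) with hT
    have hTN : ∀ x ∈ T, (x : G) ∈ N := by
      intro x hx
      rw [hT, Subgroup.mem_normalizer_iff] at hx
      refine Subgroup.mem_normalizer_iff.2 fun y => ?_
      have hmem : ∀ z : H, z ∈ (PH : Subgroup H) ↔ (z : G) ∈ (P : Subgroup G) := fun z => by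
        rw [hPH, Sylow.coe_subtype, Subgroup.mem_subgroupOf]
      constructor
      · intro hy
        have := (hmem _).1 ((hx ⟨y, (le_sup_right : (P : Subgroup G) ≤ H) hy⟩).1 ((hmem _).2 hy))
        simpa using this
      · intro hy
        have h1 : (x⁻¹ * ⟨_, (le_sup_right : (P : Subgroup G) ≤ H) hy⟩ * x : H) ∈
            (PH : Subgroup H) := (hx _).2 (by
          rw [show x * (x⁻¹ * ⟨(x : G) * y * (x : G)⁻¹, (le_sup_right : (P : Subgroup G) ≤ H) hy⟩ *
            x) * x⁻¹ = ⟨(x : G) * y * (x : G)⁻¹, (le_sup_right : (P : Subgroup G) ≤ H) hy⟩ by group]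
          exact (hmem _).2 hy)
        have := (hmem _).1 h1
        simpa [mul_assoc] using this
    let iH : (↥(H.subgroupOf N)) →* H :=
      { toFun := fun x => ⟨((x : N) : G), x.2⟩, map_one' := rfl, map_mul' := fun _ _ => rfl }
    set μ' : H.subgroupOf N →* ℂˣ := μ.comp iH with hμ'
    refine exists_nonreal hsN hq (fun x hx => (le_sup_left : M ≤ H) hx)
      (odd_index_of_ge PN fun x hx => (le_sup_right : (P : Subgroup G) ≤ H) ((hPNmem x).1 hx))
      μ' (fun h hh => hμR _ hh) ?_ hAR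
    by_contra hall
    push Not at hall
    refine hm1 ?_
    -- the values of μ are values on P
    have hTle : T ≤ K := by
      intro x hx
      have hxH : (x : G) ∈ ((M ⊔ (P : Subgroup G) : Subgroup G) : Set G) := x.2
      rw [Subgroup.normal_mul M (P : Subgroup G)] at hxH
      obtain ⟨a, ha, b, hb, e⟩ := hxH
      have haN : a ∈ N := by
        have : a = (x : G) * b⁻¹ := eq_mul_inv_of_mul_eq e
        rw [this]
        exact N.mul_mem (hTN x hx) (N.inv_mem (hPN hb))
      rw [show x = ⟨a, (le_sup_left : M ≤ H) ha⟩ * ⟨b, (le_sup_right : (P : Subgroup G) ≤ H) hb⟩ from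
        Subtype.ext e.symm]
      refine K.mul_mem ((le_sup_left : μ.ker ≤ K) ?_) ((le_sup_right : (PH : Subgroup H) ≤ K) ?_)
      · rw [MonoidHom.mem_ker]
        exact hall ⟨⟨a, haN⟩, (le_sup_left : M ≤ H) ha⟩ ha
      · rw [hPH, Sylow.coe_subtype, Subgroup.mem_subgroupOf]; exact hb
    have hKtop : K = ⊤ := top_le_iff.1 (hfr ▸ sup_le hTle le_rfl)
    have hmK : m ∈ K := hKtop ▸ Subgroup.mem_top m
    rw [hK, ← SetLike.mem_coe, Subgroup.normal_mul μ.ker (PH : Subgroup H)] at hmK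
    obtain ⟨a, ha, b, hb, e⟩ := hmK
    have hμm : μ m = μ b := by rw [← e, map_mul, MonoidHom.mem_ker.1 ha, one_mul]
    obtain ⟨i, hi⟩ := PH.isPGroup' ⟨b, hb⟩
    have h0 : μ m ^ 2 ^ i = 1 := by
      rw [hμm, ← map_pow, show b ^ 2 ^ i = 1 from congrArg Subtype.val hi, map_one]
    have hq1 : μ m ^ q = 1 := by
      rw [← map_pow]; exact hμR _ (hs.exp _ hm)
    exact (orderOf_eq_one_iff).1 (Nat.eq_one_of_dvd_coprimes
      (((Nat.coprime_two_left).2 hq).pow_left i) (orderOf_dvd_of_pow_eq_one h0)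
      (orderOf_dvd_of_pow_eq_one hq1))

end CfsgLib.RealOdd
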