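import Cfsg.Agent.Lib.CharApps.RealOdd.OddStep

/-!
# Real characters of odd degree across an elementary abelian `2`-section
-/

set_option autoImplicit false
set_option linter.unusedSectionVars false
set_option linter.style.haveILetI false

namespace CfsgLib.RealOdd

open Cfsg CfsgLib.CharsMore
open scoped ComplexConjugate

universe u v

/-- The embedding of signs. -/
noncomputable def cC : ℤˣ →* ℂˣ := Units.map (Int.castRingHom ℂ).toMonoidHom

theorem cC_injective : Function.Injective cC :=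
  Units.map_injective (f := (Int.castRingHom ℂ).toMonoidHom) fun _ _ h => Int.cast_injective h

theorem coe_cC (u : ℤˣ) : (cC u : ℂ) = ((u : ℤ) : ℂ) := rfl

/-- A homomorphism with values of square one is a sign homomorphism. -/
theorem exists_sign {X : Type v} [Group X] (ν : X →* ℂˣ) (h : ∀ x, ν x ^ 2 = 1) :
    ∃ l : X →* ℤˣ, ∀ x, cC (l x) = ν x := by
  classical
  have hval : ∀ x, ∃ u : ℤˣ, cC u = ν x := fun x => by
    have h1 : (ν x : ℂ) ^ 2 = 1 := by rw [← Units.val_pow_eq_pow_val, h, Units.val_one]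
    rcases sq_eq_one_iff.1 h1 with h2 | h2
    · exact ⟨1, Units.ext (by rw [map_one, Units.val_one, h2])⟩
    · exact ⟨-1, Units.ext (by rw [coe_cC, h2]; simp)⟩
  choose u hu using hval
  refine ⟨MonoidHom.mk' u fun a b => cC_injective ?_, hu⟩
  rw [map_mul, hu, hu, hu, map_mul]

variable {G : Type u} [Group G] [Finite G]

/-- The real linear character of a sign homomorphism. -/
noncomputable def lam {X : Type v} [Group X] (l : X →* ℤˣ) : X → ℂ := linC (cC.comp l)

theorem irr_lam {X : Type v} [Group X] (l : X →* ℤˣ) : IsIrrCharacter X (lam l) := irr_linC _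

theorem lam_apply {X : Type v} [Group X] (l : X →* ℤˣ) (x : X) : lam l x = ((l x : ℤ) : ℂ) := rfl

theorem conj_lam {X : Type v} [Group X] (l : X →* ℤˣ) (x : X) : conj (lam l x) = lam l x := by
  rw [lam_apply, map_intCast]

theorem lam_injective {X : Type v} [Group X] {l l' : X →* ℤˣ} (h : lam l = lam l') : l = l' :=
  MonoidHom.ext fun x => cC_injective (DFunLike.congr_fun (linC_injective h) x)

theorem lam_sq {X : Type v} [Group X] (l : X →* ℤˣ) (x : X) : lam l x * lam l x = 1 := by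
  rw [lam_apply, ← Int.cast_mul, ← Units.val_mul, Int.units_mul_self, Units.val_one, Int.cast_one]

/-- A constituent of an invariant label. -/
theorem over_invariant {M : Subgroup G} [M.Normal] [Fintype M] {f : M → ℂ}
    (hf : IsIrrCharacter M f) (hinv : ∀ g m, f (conjBy M g m) = f m) (hf1 : f 1 = 1)
    (χ : IrrCharacter G) :
    Over M f χ ↔ Odd (charDegree (χ : G → ℂ)) ∧ ∀ m : M, (χ : G → ℂ) m = (χ : G → ℂ) 1 * f m := by
  haveI := Fintype.ofFinite G
  rw [over_iff]
  refine and_congr_right fun _ => ⟨fun h m => ?_, fun h h0 => ?_⟩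
  · have h1 := restrict_eq_mul_of_invariant M χ.2 hf hinv h 1
    rw [OneMemClass.coe_one, hf1, mul_one] at h1
    rw [h1]
    exact restrict_eq_mul_of_invariant M χ.2 hf hinv h m
  · rw [show (fun m : M => (χ : G → ℂ) m) = (χ : G → ℂ) 1 • f from funext h, Chars.inner_smul_left,
      (Chars.isIrrCharacter_iff_inner_self.1 hf).2, mul_one] at h0
    exact Chars.irr_degree_ne_zero χ.2 h0

/-- Complex conjugation preserves lying over a real label. -/
theorem over_conj {M : Subgroup G} {f : M → ℂ} (hf : ∀ m, conj (f m) = f m) {χ : IrrCharacter G}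
    (h : Over M f χ) : Over M f (Chars.conjIrr χ) := by
  haveI := Fintype.ofFinite M
  rw [over_iff] at h ⊢
  have hdeg : charDegree (Chars.conjIrr χ : G → ℂ) = charDegree (χ : G → ℂ) := by
    show ⌊(conj ((χ : G → ℂ) 1)).re⌋₊ = _
    rw [Complex.conj_re]; rfl
  refine ⟨hdeg ▸ h.1, fun h0 => h.2 ?_⟩
  have : classInner (fun m : M => (χ : G → ℂ) m) f =
      conj (classInner (fun m : M => (Chars.conjIrr χ : G → ℂ) m) f) := by
    rw [Chars.inner_def, Chars.inner_def, map_mul, map_inv₀, map_natCast, map_sum]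
    refine congrArg _ (Finset.sum_congr rfl fun m _ => ?_)
    show _ = conj (conj ((χ : G → ℂ) m) * conj (f m))
    rw [map_mul, Complex.conj_conj, hf, hf]
  rw [this, h0, map_zero]

/-- Clifford correspondence for real characters of odd degree. -/
theorem clifford_over [Fintype G] {M : Subgroup G} [M.Normal] [Fintype M] (l : M →* ℤˣ)
    (hodd : Odd (inertia M (lam l)).index) :
    let T := inertia M (lam l)
    (Nat.card {χ : IrrCharacter G // Over M (lam l) χ ∧ IsR (χ : G → ℂ)} =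
      Nat.card {ψ : IrrCharacter T //
        Over (M.subgroupOf T) (pullFn M T (lam l)) ψ ∧ IsR (ψ : T → ℂ)}) ∧
    ((∀ χ : IrrCharacter G, Over M (lam l) χ → IsR (χ : G → ℂ)) ↔
      ∀ ψ : IrrCharacter T, Over (M.subgroupOf T) (pullFn M T (lam l)) ψ → IsR (ψ : T → ℂ)) := by
  classical
  intro T
  haveI := Fintype.ofFinite T
  haveI := Fintype.ofFinite (M.subgroupOf T)
  have hθ := irr_lam l
  have hMT : M ≤ T := le_inertia M (Chars.isClassFunction_of_isCharacter (Chars.isCharacter_of_irr hθ))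
  have hov : ∀ ψ : IrrCharacter T, Over (M.subgroupOf T) (pullFn M T (lam l)) ψ ↔
      Odd (charDegree (ψ : T → ℂ)) ∧
        classInner (fun n : M => (ψ : T → ℂ) ⟨n, hMT n.2⟩) (lam l) ≠ 0 := fun ψ => by
    rw [over_iff, ← inner_pullFn M hMT (fun n : M => (ψ : T → ℂ) ⟨n, hMT n.2⟩) (lam l)]
    rfl
  have hdeg : ∀ ψ : IrrCharacter T, ∀ χ : IrrCharacter G, indFun T (ψ : T → ℂ) = (χ : G → ℂ) →
      charDegree (χ : G → ℂ) = T.index * charDegree (ψ : T → ℂ) := fun ψ χ h => by
    have h1 := congrFun h 1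
    rw [Chars.indFun_one_apply, CharApps.deg_eq, CharApps.deg_eq] at h1
    exact_mod_cast h1.symm
  have hconjind : ∀ f : T → ℂ, ∀ g, indFun T (fun t => conj (f t)) g = conj (indFun T f g) := by
    intro f g
    rw [Chars.indFun_apply, Chars.indFun_apply, map_mul, map_inv₀, map_natCast, map_sum]
    refine congrArg _ (Finset.sum_congr rfl fun x _ => ?_)
    by_cases hx : x⁻¹ * g * x ∈ T
    · rw [Chars.extendByZero_of_mem _ _ hx, Chars.extendByZero_of_mem _ _ hx]
    · rw [Chars.extendByZero_of_not_mem _ _ hx, Chars.extendByZero_of_not_mem _ _ hx, map_zero]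
  -- the map
  let F : {ψ : IrrCharacter T // Over (M.subgroupOf T) (pullFn M T (lam l)) ψ} →
      {χ : IrrCharacter G // Over M (lam l) χ} := fun ψ =>
    ⟨⟨indFun T (ψ.1 : T → ℂ), isIrr_indFun_of_over M hMT hθ rfl ψ.1.2 ((hov ψ.1).1 ψ.2).2⟩, by
      rw [over_iff]
      refine ⟨?_, ?_⟩
      · rw [hdeg ψ.1 ⟨indFun T (ψ.1 : T → ℂ),
          isIrr_indFun_of_over M hMT hθ rfl ψ.1.2 ((hov ψ.1).1 ψ.2).2⟩ rfl]
        exact hodd.mul ((hov ψ.1).1 ψ.2).1
      · obtain ⟨h1, h2⟩ := (hov ψ.1).1 ψ.2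
        have hirr := isIrr_indFun_of_over M hMT hθ rfl ψ.1.2 h2
        have hcl := Chars.isClassFunction_of_isCharacter (Chars.isCharacter_of_irr hirr)
        have hc : classInner (fun t : T => indFun T (ψ.1 : T → ℂ) t) (ψ.1 : T → ℂ) ≠ 0 := by
          rw [← Chars.inner_indFun_right T _ hcl, (Chars.isIrrCharacter_iff_inner_self.1 hirr).2]
          exact one_ne_zero
        rw [← (correspondence_core M hMT hθ rfl ψ.1.2 h2 hirr hc).2.1]
        exact h2⟩
  have hFinj : Function.Injective F := fun a b h => Subtype.ext (Subtype.ext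
    (indFun_injective_of_over M hMT hθ rfl a.1.2 ((hov a.1).1 a.2).2 b.1.2 ((hov b.1).1 b.2).2
      (congrArg (fun x => (x.1 : G → ℂ)) h)))
  have hFsurj : Function.Surjective F := by
    rintro ⟨χ, hχ⟩
    obtain ⟨h1, h2⟩ := (over_iff M _ χ).1 hχ
    obtain ⟨ψ, hψ, hind, hin, -⟩ := exists_correspondent M hMT hθ rfl χ.2 h2
    refine ⟨⟨⟨ψ, hψ⟩, (hov _).2 ⟨?_, by rw [hin]; exact h2⟩⟩, Subtype.ext (Subtype.ext hind)⟩
    rw [hdeg ⟨ψ, hψ⟩ χ hind] at h1
    exact (Nat.odd_mul.1 h1).2
  have hreal : ∀ ψ, IsR ((F ψ).1 : G → ℂ) ↔ IsR (ψ.1 : T → ℂ) := by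
    intro ψ
    constructor
    · intro h
      let ψc : {ψ : IrrCharacter T // Over (M.subgroupOf T) (pullFn M T (lam l)) ψ} :=
        ⟨Chars.conjIrr ψ.1, over_conj (fun _ => conj_lam l _) ψ.2⟩
      have h1 : F ψc = F ψ := Subtype.ext (Subtype.ext (funext fun g =>
        (hconjind _ g).trans (isR_conj_eq.1 h g)))
      exact (Chars.conjIrr_eq_iff ψ.1).1 (congrArg Subtype.val (hFinj h1))
    · intro h
      refine isR_conj_eq.2 fun g => ?_
      show conj (indFun T (ψ.1 : T → ℂ) g) = indFun T (ψ.1 : T → ℂ) g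
      rw [← hconjind]
      exact congrFun (congrArg (indFun T) (funext fun t => isR_conj_eq.1 h t)) g
  let eF := Equiv.ofBijective F ⟨hFinj, hFsurj⟩
  refine ⟨?_, ?_⟩
  · refine (Nat.card_congr ?_).symm
    exact (Equiv.subtypeSubtypeEquivSubtypeInter _ _).symm.trans
      ((eF.subtypeEquiv fun ψ => (hreal ψ).symm).trans
        (Equiv.subtypeSubtypeEquivSubtypeInter _ fun χ : IrrCharacter G => IsR (χ : G → ℂ)))
  · constructor
    · intro h ψ hψ
      exact (hreal ⟨ψ, hψ⟩).1 (h _ (F ⟨ψ, hψ⟩).2)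
    · intro h χ hχ
      obtain ⟨ψ, hψ⟩ := hFsurj ⟨χ, hχ⟩
      have := (hreal ψ).2 (h ψ.1 ψ.2)
      rwa [hψ] at this

/-- Multiplying by a sign character. -/
noncomputable def signTwist (δ : G →* ℤˣ) : IrrCharacter G ≃ IrrCharacter G where
  toFun χ := ⟨fun g => lam δ g * (χ : G → ℂ) g, Chars.isIrrCharacter_linear_mul (cC.comp δ) χ.2⟩
  invFun χ := ⟨fun g => lam δ g * (χ : G → ℂ) g, Chars.isIrrCharacter_linear_mul (cC.comp δ) χ.2⟩
  left_inv χ := Subtype.ext (funext fun g => by
    show lam δ g * (lam δ g * _) = _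
    rw [← mul_assoc, lam_sq, one_mul])
  right_inv χ := Subtype.ext (funext fun g => by
    show lam δ g * (lam δ g * _) = _
    rw [← mul_assoc, lam_sq, one_mul])

theorem isR_signTwist (δ : G →* ℤˣ) (χ : IrrCharacter G) :
    IsR (signTwist δ χ : G → ℂ) ↔ IsR (χ : G → ℂ) := by
  simp only [isR_conj_eq]
  refine forall_congr' fun g => ?_
  show conj (lam δ g * (χ : G → ℂ) g) = lam δ g * (χ : G → ℂ) g ↔ _
  rw [map_mul, conj_lam]
  exact ⟨fun h => mul_left_cancel₀ (fun h0 => by simpa [h0] using lam_sq δ g) h, fun h => by rw [h]⟩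

theorem charDegree_signTwist (δ : G →* ℤˣ) (χ : IrrCharacter G) :
    charDegree (signTwist δ χ : G → ℂ) = charDegree (χ : G → ℂ) := by
  show ⌊(lam δ 1 * (χ : G → ℂ) 1).re⌋₊ = _
  rw [show lam δ 1 = 1 by rw [lam_apply, map_one]; simp, one_mul]; rfl

/-- The label comes from a sign character of the whole group. -/
def HasSign (M : Subgroup G) (l : M →* ℤˣ) : Prop := ∃ δ : G →* ℤˣ, ∀ m : M, δ m = l m

/-- The label extends to a linear character of the join with a Sylow `2`-subgroup. -/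
def HasLin (M : Subgroup G) (P : Sylow 2 G) (l : M →* ℤˣ) : Prop :=
  ∃ μ : ↥(M ⊔ (P : Subgroup G)) →* ℂˣ, ∀ m : M, μ ⟨m, le_sup_left (a := M) m.2⟩ = cC (l m)

/-- Transfer of an extension with values of exponent two on the normal subgroup. -/
theorem transfer_ext {A : Type*} [CommGroup A] {M H : Subgroup G} [M.Normal] (hMH : M ≤ H)
    (hodd : Odd H.index) (ν : H →* A) (l : M →* A) (hν : ∀ m : M, ν ⟨m, hMH m.2⟩ = l m)
    (hl : ∀ m, l m ^ 2 = 1) (hinv : ∀ g m, l (conjBy M g m) = l m) :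
    ∃ δ : G →* A, ∀ m : M, δ m = l m := by
  refine ⟨MonoidHom.transfer ν, fun m => ?_⟩
  rw [transfer_apply_of_invariant hMH ν l hν hinv m]
  obtain ⟨r, hr⟩ := hodd
  rw [hr, pow_succ, pow_mul, hl, one_pow, one_mul]

/-- The twisting lemma. -/
theorem twist {R M : Subgroup G} [R.Normal] [M.Normal] (hs : Sec R M 2) (P : Sylow 2 G)
    (l : M →* ℤˣ) (hlR : ∀ m : M, (m : G) ∈ R → l m = 1)
    (hinv : ∀ g m, l (conjBy M g m) = l m) :
    (HasSign M l → Nat.card {χ : IrrCharacter G // Over M (lam l) χ ∧ IsR (χ : G → ℂ)} = cnt M) ∧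
    (¬ HasSign M l → Nat.card {χ : IrrCharacter G // Over M (lam l) χ ∧ IsR (χ : G → ℂ)} = 0) ∧
    ((∀ χ : IrrCharacter G, Over M (lam l) χ → IsR (χ : G → ℂ)) ↔
      (HasLin M P l → HasSign M l ∧ AR M)) := by
  classical
  haveI := Fintype.ofFinite G
  haveI := Fintype.ofFinite M
  have hθ := irr_lam l
  have hinvf : ∀ g m, lam l (conjBy M g m) = lam l m := fun g m => by
    rw [lam_apply, lam_apply, hinv]
  have h1 : lam l 1 = 1 := by rw [lam_apply, map_one]; simp
  have hov := over_invariant hθ hinvf h1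
  set H := M ⊔ (P : Subgroup G) with hH
  haveI := Fintype.ofFinite H
  have hodd := odd_index_of_ge P (le_sup_right : (P : Subgroup G) ≤ H)
  obtain ⟨k, hk⟩ := exists_relIndex_two_pow P M
  have hl2 : ∀ m, l m ^ 2 = 1 := fun m => Int.units_sq _
  have hoddin : ∀ χ : IrrCharacter G, Over M (lam l) χ → OddIn R χ := fun χ hχ => by
    obtain ⟨hd, hv⟩ := (hov χ).1 hχ
    refine ⟨hd, fun r hr => ?_⟩
    rw [show r = ((⟨r, hs.le hr⟩ : M) : G) from rfl, hv, lam_apply, hlR _ hr]
    simp
  -- a linear constituent on H restricts to the label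
  have hrestr : ∀ (χ : IrrCharacter G), Over M (lam l) χ → ∀ μ : H →* ℂˣ,
      classInner (fun h : H => (χ : G → ℂ) h) (linC μ) ≠ 0 →
        ∀ m : M, μ ⟨m, le_sup_left (a := M) m.2⟩ = cC (l m) := by
    intro χ hχ μ hne m
    obtain ⟨f, hf⟩ := Berger.mult_of_homog (Chars.isCharacter_restrict H
      (Chars.isCharacter_of_irr χ.2)) (irr_linC μ) hne (Subgroup.inclusion (le_sup_left : M ≤ H))
      hθ (c := (χ : G → ℂ) 1) ((hov χ).1 hχ).2
    have h2 := hf 1
    rw [map_one, linC_one, h1, mul_one] at h2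
    have h3 := hf m
    rw [← h2, one_mul] at h3
    exact Units.ext h3
  have hlin_of_over : ∀ χ : IrrCharacter G, Over M (lam l) χ → HasLin M P l := fun χ hχ => by
    obtain ⟨μ, -, hne, -⟩ := exists_linear_on hs.le hs.ab le_sup_left hk (hoddin χ hχ)
    exact ⟨μ, hrestr χ hχ μ hne⟩
  have htwist : ∀ (δ : G →* ℤˣ), (∀ m : M, δ m = l m) → ∀ χ : IrrCharacter G,
      Over M (lam l) (signTwist δ χ) ↔ OddIn M χ := by
    intro δ hδ χ
    rw [hov, charDegree_signTwist]
    refine and_congr_right fun _ => ?_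
    have hne : ∀ m : M, lam l m ≠ 0 := fun m h0 => by simpa [h0] using lam_sq l m
    have hcalc : ∀ m : M, (signTwist δ χ : G → ℂ) m = lam l m * (χ : G → ℂ) m := fun m => by
      show lam δ (m : G) * _ = _
      rw [lam_apply, hδ, ← lam_apply l]
    have hone : (signTwist δ χ : G → ℂ) 1 = (χ : G → ℂ) 1 := by
      show lam δ 1 * _ = _
      rw [lam_apply, map_one]; simp
    refine ⟨fun h r hr => ?_, fun h m => ?_⟩
    · have h2 := h ⟨r, hr⟩
      rw [hcalc, hone, mul_comm ((χ : G → ℂ) 1)] at h2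
      exact mul_left_cancel₀ (hne _) h2
    · rw [hcalc, hone, h m m.2, mul_comm]
  refine ⟨fun ⟨δ, hδ⟩ => ?_, fun hno => ?_, ?_⟩
  · exact (Nat.card_congr ((signTwist δ).subtypeEquiv fun χ =>
      (and_congr (htwist δ hδ χ) (isR_signTwist δ χ)).symm)).symm
  · haveI : IsEmpty {χ : IrrCharacter G // Over M (lam l) χ ∧ IsR (χ : G → ℂ)} := by
      refine ⟨fun ⟨χ, hχ, hr⟩ => hno ?_⟩
      obtain ⟨μ, -, hne, hμ2⟩ := exists_linear_on hs.le hs.ab le_sup_left hk (hoddin χ hχ)
      obtain ⟨ν, hν⟩ := exists_sign μ (hμ2 hr)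
      exact transfer_ext le_sup_left hodd ν l
        (fun m => cC_injective ((hν _).trans (hrestr χ hχ μ hne m))) hl2 hinv
    exact Nat.card_of_isEmpty
  · constructor
    · intro hall ⟨μ, hμ⟩
      obtain ⟨δc, hδc⟩ := transfer_ext (A := ℂˣ) le_sup_left hodd μ (cC.comp l) hμ
        (fun m => by rw [MonoidHom.comp_apply, ← map_pow, hl2, map_one])
        (fun g m => by rw [MonoidHom.comp_apply, MonoidHom.comp_apply, hinv])
      have hover : Over M (lam l) ⟨linC δc, irr_linC δc⟩ := by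
        rw [hov]
        refine ⟨by simp [charDegree, linC_one], fun m => ?_⟩
        show linC δc (m : G) = linC δc 1 * lam l m
        rw [linC_one, one_mul]
        exact congrArg Units.val (hδc m)
      have hr := isR_conj_eq.1 (hall _ hover)
      obtain ⟨δ, hδ⟩ := exists_sign δc fun g => by
        have h2 : (δc g : ℂ) * conj (δc g : ℂ) = 1 := by
          have hu := Chars.irr_inv ⟨linC δc, irr_linC δc⟩ g
          show (δc g : ℂ) * conj (linC δc g) = 1
          rw [← hu]
          simp [linC]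
        refine Units.ext ?_
        rw [Units.val_pow_eq_pow_val, sq, Units.val_one]
        rwa [show conj (δc g : ℂ) = (δc g : ℂ) from hr g] at h2
      have hδl : ∀ m : M, δ m = l m := fun m => cC_injective ((hδ _).trans (hδc m))
      exact ⟨⟨δ, hδl⟩, fun χ hχ => (isR_signTwist δ χ).1 (hall _ ((htwist δ hδl χ).2 hχ))⟩
    · intro h χ hχ
      obtain ⟨⟨δ, hδ⟩, hM⟩ := h (hlin_of_over χ hχ)
      have h2 : signTwist δ ((signTwist δ).symm χ) = χ := Equiv.apply_symm_apply _ _
      rw [← h2] at hχ ⊢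
      exact (isR_signTwist δ _).2 (hM _ ((htwist δ hδ _).1 hχ))

end CfsgLib.RealOdd
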